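import Cfsg.Agent.Lib.Presented.Data.FiT14080

/-! Generated certificate checks. -/

set_option autoImplicit false
set_option maxRecDepth 20000

namespace Cfsg.Agent.Presented.FiT14080

theorem edgesOK_30 : checkBlock cert.checkEdge (cert.N * cert.m) 12 122880 = true := by decide +kernel

end Cfsg.Agent.Presented.FiT14080
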