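import Cfsg.Agent.Lib.Presented.Data.FiT14080E0
import Cfsg.Agent.Lib.Presented.Data.FiT14080E1
import Cfsg.Agent.Lib.Presented.Data.FiT14080E2
import Cfsg.Agent.Lib.Presented.Data.FiT14080E3

/-! Generated certificate checks. -/

set_option autoImplicit false
set_option maxRecDepth 20000

namespace Cfsg.Agent.Presented.FiT14080

theorem cert_edgesOK : cert.edgesOK = true :=
  checkBelow_of_block (by decide +kernel)
    (checkBlock_join 16
    (checkBlock_join 15
    (checkBlock_join 14
    (checkBlock_join 13
    (checkBlock_join 12
    edgesOK_0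
    edgesOK_1)
    (checkBlock_join 12
    edgesOK_2
    edgesOK_3))
    (checkBlock_join 13
    (checkBlock_join 12
    edgesOK_4
    edgesOK_5)
    (checkBlock_join 12
    edgesOK_6
    edgesOK_7)))
    (checkBlock_join 14
    (checkBlock_join 13
    (checkBlock_join 12
    edgesOK_8
    edgesOK_9)
    (checkBlock_join 12
    edgesOK_10
    edgesOK_11))
    (checkBlock_join 13
    (checkBlock_join 12
    edgesOK_12
    edgesOK_13)
    (checkBlock_join 12
    edgesOK_14
    edgesOK_15))))
    (checkBlock_join 15
    (checkBlock_join 14
    (checkBlock_join 13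
    (checkBlock_join 12
    edgesOK_16
    edgesOK_17)
    (checkBlock_join 12
    edgesOK_18
    edgesOK_19))
    (checkBlock_join 13
    (checkBlock_join 12
    edgesOK_20
    edgesOK_21)
    (checkBlock_join 12
    edgesOK_22
    edgesOK_23)))
    (checkBlock_join 14
    (checkBlock_join 13
    (checkBlock_join 12
    edgesOK_24
    edgesOK_25)
    (checkBlock_join 12
    edgesOK_26
    edgesOK_27))
    (checkBlock_join 13
    (checkBlock_join 12
    edgesOK_28
    edgesOK_29)
    (checkBlock_join 12
    edgesOK_30
    (checkBlock_ge 12 126976 (Nat.le_of_ble_eq_true (by decide +kernel))))))))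

end Cfsg.Agent.Presented.FiT14080
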