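import Cfsg.Agent.Lib.Presented.Coset

/-! Generated coset table certificate data. -/

set_option autoImplicit false
set_option maxRecDepth 20000

namespace Cfsg.Agent.Presented.FiT16

/-- Table data. -/
noncomputable def actT : NTree :=
 (.leaf 0x7bdef739ce6bd6d639a95358c6ad2b59d8a529875a1282a126524e539886320a819c843088518ca31084408c010882100000)

/-- Table data. -/
noncomputable def rankT : NTree :=
 (.leaf 0x9d3664f97263c88d2a04487160ba7b09f3b7ee1ab76cc1e3266c5cab68b96284aa56a75ea91a14478e1f3a98d242e80c94364ca98203cb111c3059214342880e243040608080)

/-- Table data. -/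
noncomputable def justT : NTree :=
 (.leaf 0xe00802b802006e00800b40201a0000006c02022d00803b00201e00000040000000000006c010160000004000000b0040280000010000006401012800c08a40100a0000001c02026000000600301e90040080000017004059c01012500c089c0100a0000000000001000000000000170040194020160000004c03026500403800000100000000000003008078000001400c069002016000000480302640040390010063008048000000000000400000000000048020120000000000001100c0788010022008028802006000000040201a00000040020221008038000000000000400000000000040010160004048000000000402800000000000d800003200000b800002a)

/-- Table data. -/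
noncomputable def parT : NTree :=
 (.leaf 0x8d09db15e9d31c345c88c1418200)

/-- Coset table certificate. -/
noncomputable def cert : CosetCert where
  N := 16
  m := 5
  depth := 7
  aw := 5
  rw := 7
  jw := 26
  pw := 7
  nR := 10
  words :=
   [[2, 0, 2, 0],
    [3, 0, 3, 0],
    [4, 0, 4, 0],
    [3, 1, 3, 1],
    [4, 2, 4, 2],
    [4, 3, 4, 3],
    [1, 0, 1, 0, 1, 0],
    [2, 1, 2, 1, 2, 1],
    [4, 1, 4, 1, 4, 1],
    [3, 2, 3, 2, 3, 2],
    [0],
    [1],
    [2],
    [3]]
  act := actT
  rank := rankT
  just := justT
  par := parT

theorem edgesOK_0 : checkBlock cert.checkEdge (cert.N * cert.m) 7 0 = true := by decide +kernel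

theorem cert_edgesOK : cert.edgesOK = true :=
  checkBelow_of_block (by decide +kernel)
    edgesOK_0

theorem cert_nodesOK : cert.nodesOK = true := by decide +kernel

end Cfsg.Agent.Presented.FiT16
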