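import Cfsg.Agent.Lib.Presented.Coset

/-! Generated coset table certificate data. -/

set_option autoImplicit false
set_option maxRecDepth 20000

namespace Cfsg.Agent.Presented.FiT27

/-- Table data. -/
noncomputable def actT : NTree :=
 (.node 128
 (.leaf 0x9d654a5296b4e71aca92942538c5f38c210649b17ba2f7b1cf739cb6b54d8358b8314f5b16b4b9496a18a4a9275a4c742908220a939d04318c6194e5294e61908428c8218c4210c22084211000000001)
 (.leaf 0x359d6b5aceb19ce718cdf18adef8b5e76b5af4bd6b5))

/-- Table data. -/
noncomputable def rankT : NTree :=
 (.node 128
 (.leaf 0x7c7f7679787a7783817374707b72756c6e6b6d716869646f676661625e6a60655b5963585c57545a535255514d4f4b4e5f4c48465d4945564247414340503e3c4a3a443b383d37353f362e333139302f28322c342a292d22262524231c1f2b201e1d2721171a19181b14161215130f0e0d110c100a0908070b06040302010005)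
 (.leaf 0xa09ca19f9e9d999b969a9897949295909391898e8d8f8c8a828685878b84887e7d80))

/-- Table data. -/
noncomputable def justT : NTree :=
 (.node 128
 (.leaf 0x3200c0a8000000c8010269002045000c0da40080d480100e00000011008079e01019000000100000000000004000000400201e60040640000005a0181740010027804044e0080e80000008000000780202400000058010112c0203a00000020000000000000b001006600401cb0080280000003002002500405400000056010070000001580400cb0080092010150000001500404490080e8000000a0030325002024a00401940100d2402016000000080080b80000008000000480403400000052010091c0202e00000020000000c0101b1c0201e000000000000040000002001002200406c0000004a01019000000100000007004008000000800000130020440000000c0080d180100e0000002400409800000080000002002034400403800000000000011806074400407880080b100100a0000002300409860081108030361802034300403800000000000000000002200c0c86008090c01006000000020080780000000000001080605c200400820100d040201608040240000000000000800302a000401c0008028001003000200200000000000004000027000004a000008c000010800001f0000000)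
 (.leaf 0x32010130000001c006075900407b20080b640100ac0040440000000000000dc03032c002025800401aa0101b5c0201e00000000000006c018175c010020000003500409aa00811000000000000035004038000000cc010269802045100c0da60080d00000010000001300805a601009440202e))

/-- Table data. -/
noncomputable def parT : NTree :=
 (.leaf 0x9a938c8377737168625d4b48423f3d37322c291d1c17150e070000)

/-- Coset table certificate. -/
noncomputable def cert : CosetCert where
  N := 27
  m := 6
  depth := 8
  aw := 5
  rw := 8
  jw := 27
  pw := 8
  nR := 15
  words :=
   [[2, 0, 2, 0],
    [3, 0, 3, 0],
    [4, 0, 4, 0],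
    [5, 0, 5, 0],
    [3, 1, 3, 1],
    [4, 1, 4, 1],
    [5, 1, 5, 1],
    [4, 2, 4, 2],
    [5, 3, 5, 3],
    [5, 4, 5, 4],
    [1, 0, 1, 0, 1, 0],
    [2, 1, 2, 1, 2, 1],
    [3, 2, 3, 2, 3, 2],
    [5, 2, 5, 2, 5, 2],
    [4, 3, 4, 3, 4, 3],
    [1],
    [2],
    [3],
    [4],
    [5]]
  act := actT
  rank := rankT
  just := justT
  par := parT

theorem edgesOK_0 : checkBlock cert.checkEdge (cert.N * cert.m) 8 0 = true := by decide +kernel

theorem cert_edgesOK : cert.edgesOK = true :=
  checkBelow_of_block (by decide +kernel)
    edgesOK_0

theorem cert_nodesOK : cert.nodesOK = true := by decide +kernel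

end Cfsg.Agent.Presented.FiT27
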