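import Cfsg.Agent.Lib.Presented.Coset

/-! Generated coset table certificate data. -/

set_option autoImplicit false
set_option maxRecDepth 20000

namespace Cfsg.Agent.Presented.FiT28

/-- Table data. -/
noncomputable def actT : NTree :=
 (.node 128
 (.leaf 0x95635746347c2146cdd07c98f7be2e7456e831ad6c1ab6b18f5318e5ad6e4b54a5298852ce94a56941508428c949ce739ca4318c641905294a43988420ca418c6220c621046210820104210802000000)
 (.leaf 0xb66fadef79b6b78d6b5bcdb39ce298c6ab89df77bdefbd4f34b5ab1ad6b895310a5a34bced384e727ca52))

/-- Table data. -/
noncomputable def rankT : NTree :=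
 (.node 128
 (.leaf 0x7b8f778d73787689757170866c806f6d6979666a6867746362725f646e615b5a596b5d585c55546552565360504f4e5e4b574d4947465145484c3d4342414a403f363b3a3944383e3c33323130342f282c2b2a2d37293525242326222e271f1e201c211d19181a151b171612130e1411100f0c070d0b0a090805060403020100)
 (.leaf 0xb8bebcc0bdbab9c3b1b6c1b5b3b2c2bfafabaeadaca8a3a9a7b4a6a49ca0bb9fa19e9db7b096aa9a9897938e949291a5908ba2878c998a889b8395858184827e7a7f7d7c))

/-- Table data. -/
noncomputable def justT : NTree :=
 (.node 128
 (.leaf 0x780203cf004039c0101b00000000000002b00c139c00813380101a0000002d0080c9a01017000000000000020000000000000b401006600406c0000000000000a80304e600204cc0040698008052c02032580405c0000000000000a403046580202c00000056010112c0201e580403400000012010210000001500607ca0080c940101700000000000002800c11940080b2801006380409490080a9201013000000000000020000000000000940204a400405480080980000000000001300608480040080000009c0103a380206c70040c80000001c0102200000020000004a0081d140103628020640000000000000940101200000005008038a010051402006280400440080f80000008000001200207440040d88008190c0304a20020444004048000000100201e200403440080586010210000001000000000000006010150c02026100408c00000040000000c01002100406420080b8201027000000100000002004058400803040203600040a4000000400000004010260802034100402800101d0000001000000000040b8000815000101e000201c00001b8000000000006a00000cc000018800002f000005a)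
 (.leaf 0x240901580000008018056a006095600408ac0080900000010000003300c1480000008000001b00203d600403ac0101d0000001980409c00000068018235801016b00200d40080e8000000c003052a00205d40040a8000000d00100e000000330040ea60081b4c010328006095300408a60080900000000000000000000400000000000019802035300402a20101d000000170060a510040ba200815440101e000000300080d80000000000001680609d0004098000000c00100a000000100080a800000034020460000002e00c10a0008013c0203a0000002c00c149e008173c0102a))

/-- Table data. -/
noncomputable def parT : NTree :=
 (.leaf 0xa09f9d918b897c74726e665e58504e49413a372923221d17110b0500)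

/-- Coset table certificate. -/
noncomputable def cert : CosetCert where
  N := 28
  m := 7
  depth := 8
  aw := 5
  rw := 8
  jw := 27
  pw := 8
  nR := 22
  words :=
   [[2, 0, 2, 0],
    [3, 0, 3, 0],
    [4, 0, 4, 0],
    [5, 0, 5, 0],
    [6, 0, 6, 0],
    [3, 1, 3, 1],
    [4, 1, 4, 1],
    [5, 1, 5, 1],
    [6, 1, 6, 1],
    [4, 2, 4, 2],
    [5, 2, 5, 2],
    [5, 3, 5, 3],
    [6, 3, 6, 3],
    [6, 4, 6, 4],
    [6, 5, 6, 5],
    [1, 0, 1, 0, 1, 0],
    [2, 1, 2, 1, 2, 1],
    [3, 2, 3, 2, 3, 2],
    [6, 2, 6, 2, 6, 2],
    [4, 3, 4, 3, 4, 3],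
    [5, 4, 5, 4, 5, 4],
    [6, 5, 4, 3, 2, 1, 0, 6, 5, 4, 3, 2, 1, 0, 6, 5, 4, 3, 2, 1, 0, 6, 5, 4, 3, 2, 1, 0, 6, 5, 4, 3, 2, 1, 0, 6, 5, 4, 3, 2, 1, 0, 6, 5, 4, 3, 2, 1, 0, 6, 5, 4, 3, 2, 1, 0, 6, 5, 4, 3, 2, 1, 0],
    [0],
    [1],
    [2],
    [3],
    [4],
    [6]]
  act := actT
  rank := rankT
  just := justT
  par := parT

theorem edgesOK_0 : checkBlock cert.checkEdge (cert.N * cert.m) 8 0 = true := by decide +kernel

theorem cert_edgesOK : cert.edgesOK = true :=
  checkBelow_of_block (by decide +kernel)
    edgesOK_0

theorem cert_nodesOK : cert.nodesOK = true := by decide +kernel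

end Cfsg.Agent.Presented.FiT28
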