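import Cfsg.Agent.Lib.Presented.Data.HeT49980

/-! Generated certificate checks. -/

set_option autoImplicit false
set_option maxRecDepth 20000

namespace Cfsg.Agent.Presented.HeT49980

theorem edgesOK_50 : checkBlock cert.checkEdge (cert.N * cert.m) 12 204800 = true := by decide +kernel

theorem edgesOK_51 : checkBlock cert.checkEdge (cert.N * cert.m) 12 208896 = true := by decide +kernel

theorem edgesOK_52 : checkBlock cert.checkEdge (cert.N * cert.m) 12 212992 = true := by decide +kernel

theorem edgesOK_53 : checkBlock cert.checkEdge (cert.N * cert.m) 12 217088 = true := by decide +kernel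

theorem edgesOK_54 : checkBlock cert.checkEdge (cert.N * cert.m) 12 221184 = true := by decide +kernel

theorem edgesOK_55 : checkBlock cert.checkEdge (cert.N * cert.m) 12 225280 = true := by decide +kernel

theorem edgesOK_56 : checkBlock cert.checkEdge (cert.N * cert.m) 12 229376 = true := by decide +kernel

theorem edgesOK_57 : checkBlock cert.checkEdge (cert.N * cert.m) 12 233472 = true := by decide +kernel

theorem edgesOK_58 : checkBlock cert.checkEdge (cert.N * cert.m) 12 237568 = true := by decide +kernel

theorem edgesOK_59 : checkBlock cert.checkEdge (cert.N * cert.m) 12 241664 = true := by decide +kernel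

end Cfsg.Agent.Presented.HeT49980
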