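import Cfsg.Agent.Lib.Presented.Data.HeT49980

/-! Generated certificate checks. -/

set_option autoImplicit false
set_option maxRecDepth 20000

namespace Cfsg.Agent.Presented.HeT49980

theorem edgesOK_80 : checkBlock cert.checkEdge (cert.N * cert.m) 12 327680 = true := by decide +kernel

theorem edgesOK_81 : checkBlock cert.checkEdge (cert.N * cert.m) 12 331776 = true := by decide +kernel

theorem edgesOK_82 : checkBlock cert.checkEdge (cert.N * cert.m) 12 335872 = true := by decide +kernel

theorem edgesOK_83 : checkBlock cert.checkEdge (cert.N * cert.m) 12 339968 = true := by decide +kernel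

theorem edgesOK_84 : checkBlock cert.checkEdge (cert.N * cert.m) 12 344064 = true := by decide +kernel

theorem edgesOK_85 : checkBlock cert.checkEdge (cert.N * cert.m) 12 348160 = true := by decide +kernel

end Cfsg.Agent.Presented.HeT49980
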