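import Cfsg.Agent.Lib.Presented.Data.HeT49980E0
import Cfsg.Agent.Lib.Presented.Data.HeT49980E1
import Cfsg.Agent.Lib.Presented.Data.HeT49980E2
import Cfsg.Agent.Lib.Presented.Data.HeT49980E3
import Cfsg.Agent.Lib.Presented.Data.HeT49980E4
import Cfsg.Agent.Lib.Presented.Data.HeT49980E5
import Cfsg.Agent.Lib.Presented.Data.HeT49980E6
import Cfsg.Agent.Lib.Presented.Data.HeT49980E7
import Cfsg.Agent.Lib.Presented.Data.HeT49980E8

/-! Generated certificate checks. -/

set_option autoImplicit false
set_option maxRecDepth 20000

namespace Cfsg.Agent.Presented.HeT49980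

theorem cert_edgesOK : cert.edgesOK = true :=
  checkBelow_of_block (by decide +kernel)
    (checkBlock_join 18
    (checkBlock_join 17
    (checkBlock_join 16
    (checkBlock_join 15
    (checkBlock_join 14
    (checkBlock_join 13
    (checkBlock_join 12
    edgesOK_0
    edgesOK_1)
    (checkBlock_join 12
    edgesOK_2
    edgesOK_3))
    (checkBlock_join 13
    (checkBlock_join 12
    edgesOK_4
    edgesOK_5)
    (checkBlock_join 12
    edgesOK_6
    edgesOK_7)))
    (checkBlock_join 14
    (checkBlock_join 13
    (checkBlock_join 12
    edgesOK_8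
    edgesOK_9)
    (checkBlock_join 12
    edgesOK_10
    edgesOK_11))
    (checkBlock_join 13
    (checkBlock_join 12
    edgesOK_12
    edgesOK_13)
    (checkBlock_join 12
    edgesOK_14
    edgesOK_15))))
    (checkBlock_join 15
    (checkBlock_join 14
    (checkBlock_join 13
    (checkBlock_join 12
    edgesOK_16
    edgesOK_17)
    (checkBlock_join 12
    edgesOK_18
    edgesOK_19))
    (checkBlock_join 13
    (checkBlock_join 12
    edgesOK_20
    edgesOK_21)
    (checkBlock_join 12
    edgesOK_22
    edgesOK_23)))
    (checkBlock_join 14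
    (checkBlock_join 13
    (checkBlock_join 12
    edgesOK_24
    edgesOK_25)
    (checkBlock_join 12
    edgesOK_26
    edgesOK_27))
    (checkBlock_join 13
    (checkBlock_join 12
    edgesOK_28
    edgesOK_29)
    (checkBlock_join 12
    edgesOK_30
    edgesOK_31)))))
    (checkBlock_join 16
    (checkBlock_join 15
    (checkBlock_join 14
    (checkBlock_join 13
    (checkBlock_join 12
    edgesOK_32
    edgesOK_33)
    (checkBlock_join 12
    edgesOK_34
    edgesOK_35))
    (checkBlock_join 13
    (checkBlock_join 12
    edgesOK_36
    edgesOK_37)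
    (checkBlock_join 12
    edgesOK_38
    edgesOK_39)))
    (checkBlock_join 14
    (checkBlock_join 13
    (checkBlock_join 12
    edgesOK_40
    edgesOK_41)
    (checkBlock_join 12
    edgesOK_42
    edgesOK_43))
    (checkBlock_join 13
    (checkBlock_join 12
    edgesOK_44
    edgesOK_45)
    (checkBlock_join 12
    edgesOK_46
    edgesOK_47))))
    (checkBlock_join 15
    (checkBlock_join 14
    (checkBlock_join 13
    (checkBlock_join 12
    edgesOK_48
    edgesOK_49)
    (checkBlock_join 12
    edgesOK_50
    edgesOK_51))
    (checkBlock_join 13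
    (checkBlock_join 12
    edgesOK_52
    edgesOK_53)
    (checkBlock_join 12
    edgesOK_54
    edgesOK_55)))
    (checkBlock_join 14
    (checkBlock_join 13
    (checkBlock_join 12
    edgesOK_56
    edgesOK_57)
    (checkBlock_join 12
    edgesOK_58
    edgesOK_59))
    (checkBlock_join 13
    (checkBlock_join 12
    edgesOK_60
    edgesOK_61)
    (checkBlock_join 12
    edgesOK_62
    edgesOK_63))))))
    (checkBlock_join 17
    (checkBlock_join 16
    (checkBlock_join 15
    (checkBlock_join 14
    (checkBlock_join 13
    (checkBlock_join 12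
    edgesOK_64
    edgesOK_65)
    (checkBlock_join 12
    edgesOK_66
    edgesOK_67))
    (checkBlock_join 13
    (checkBlock_join 12
    edgesOK_68
    edgesOK_69)
    (checkBlock_join 12
    edgesOK_70
    edgesOK_71)))
    (checkBlock_join 14
    (checkBlock_join 13
    (checkBlock_join 12
    edgesOK_72
    edgesOK_73)
    (checkBlock_join 12
    edgesOK_74
    edgesOK_75))
    (checkBlock_join 13
    (checkBlock_join 12
    edgesOK_76
    edgesOK_77)
    (checkBlock_join 12
    edgesOK_78
    edgesOK_79))))
    (checkBlock_join 15
    (checkBlock_join 14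
    (checkBlock_join 13
    (checkBlock_join 12
    edgesOK_80
    edgesOK_81)
    (checkBlock_join 12
    edgesOK_82
    edgesOK_83))
    (checkBlock_join 13
    (checkBlock_join 12
    edgesOK_84
    edgesOK_85)
    (checkBlock_ge 13 352256 (Nat.le_of_ble_eq_true (by decide +kernel)))))
    (checkBlock_ge 15 360448 (Nat.le_of_ble_eq_true (by decide +kernel)))))
    (checkBlock_ge 17 393216 (Nat.le_of_ble_eq_true (by decide +kernel)))))

end Cfsg.Agent.Presented.HeT49980
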