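import Cfsg.Agent.Lib.Presented.Data.FiRigidData
import Cfsg.Agent.Lib.Presented.Data.FiC3510

/-! The candidates are allowed or violate a relation. -/

set_option autoImplicit false
set_option maxRecDepth 20000

namespace Cfsg.Agent.Presented.FiRigid

open Cfsg.Agent.Presented

theorem cand1_22_ok : cands22.all (data.candOK FiC3510.cert 1) = true := by
  decide +kernel

theorem cand1_23_ok : cands23.all (data.candOK FiC3510.cert 1) = true := by
  decide +kernel

theorem cand1_24_ok : cands24.all (data.candOK FiC3510.cert 1) = true := by
  decide +kernel

theorem cand1_25_ok : cands25.all (data.candOK FiC3510.cert 1) = true := by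
  decide +kernel

theorem cand1_26_ok : cands26.all (data.candOK FiC3510.cert 1) = true := by
  decide +kernel

theorem cand1_27_ok : cands27.all (data.candOK FiC3510.cert 1) = true := by
  decide +kernel

theorem cand1_28_ok : cands28.all (data.candOK FiC3510.cert 1) = true := by
  decide +kernel

theorem cand1_29_ok : cands29.all (data.candOK FiC3510.cert 1) = true := by
  decide +kernel

theorem cand1_30_ok : cands30.all (data.candOK FiC3510.cert 1) = true := by
  decide +kernel

theorem cand1_31_ok : cands31.all (data.candOK FiC3510.cert 1) = true := by
  decide +kernel

theorem cand1_32_ok : cands32.all (data.candOK FiC3510.cert 1) = true := by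
  decide +kernel

theorem cand1_33_ok : cands33.all (data.candOK FiC3510.cert 1) = true := by
  decide +kernel

theorem cand1_34_ok : cands34.all (data.candOK FiC3510.cert 1) = true := by
  decide +kernel

theorem cand1_35_ok : cands35.all (data.candOK FiC3510.cert 1) = true := by
  decide +kernel

theorem cand1_36_ok : cands36.all (data.candOK FiC3510.cert 1) = true := by
  decide +kernel

theorem cand1_37_ok : cands37.all (data.candOK FiC3510.cert 1) = true := by
  decide +kernel

theorem cand1_38_ok : cands38.all (data.candOK FiC3510.cert 1) = true := by
  decide +kernel

theorem cand1_39_ok : cands39.all (data.candOK FiC3510.cert 1) = true := by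
  decide +kernel

theorem cand1_40_ok : cands40.all (data.candOK FiC3510.cert 1) = true := by
  decide +kernel

theorem cand1_41_ok : cands41.all (data.candOK FiC3510.cert 1) = true := by
  decide +kernel

theorem cand1_42_ok : cands42.all (data.candOK FiC3510.cert 1) = true := by
  decide +kernel

theorem cand1_43_ok : cands43.all (data.candOK FiC3510.cert 1) = true := by
  decide +kernel


end Cfsg.Agent.Presented.FiRigid
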