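import Cfsg.Agent.Lib.Presented.Data.FiRigidData
import Cfsg.Agent.Lib.Presented.Data.FiC3510

/-! The candidates are allowed or violate a relation. -/

set_option autoImplicit false
set_option maxRecDepth 20000

namespace Cfsg.Agent.Presented.FiRigid

open Cfsg.Agent.Presented

theorem cand1_44_ok : cands44.all (data.candOK FiC3510.cert 1) = true := by
  decide +kernel

theorem cand1_45_ok : cands45.all (data.candOK FiC3510.cert 1) = true := by
  decide +kernel

theorem cand1_46_ok : cands46.all (data.candOK FiC3510.cert 1) = true := by
  decide +kernel

theorem cand1_47_ok : cands47.all (data.candOK FiC3510.cert 1) = true := by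
  decide +kernel

theorem cand1_48_ok : cands48.all (data.candOK FiC3510.cert 1) = true := by
  decide +kernel

theorem cand1_49_ok : cands49.all (data.candOK FiC3510.cert 1) = true := by
  decide +kernel

theorem cand1_50_ok : cands50.all (data.candOK FiC3510.cert 1) = true := by
  decide +kernel

theorem cand1_51_ok : cands51.all (data.candOK FiC3510.cert 1) = true := by
  decide +kernel

theorem cand1_52_ok : cands52.all (data.candOK FiC3510.cert 1) = true := by
  decide +kernel

theorem cand1_53_ok : cands53.all (data.candOK FiC3510.cert 1) = true := by
  decide +kernel

theorem cand1_54_ok : cands54.all (data.candOK FiC3510.cert 1) = true := by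
  decide +kernel

theorem cand1_55_ok : cands55.all (data.candOK FiC3510.cert 1) = true := by
  decide +kernel

theorem cand1_56_ok : cands56.all (data.candOK FiC3510.cert 1) = true := by
  decide +kernel

theorem cand1_57_ok : cands57.all (data.candOK FiC3510.cert 1) = true := by
  decide +kernel

theorem cand1_58_ok : cands58.all (data.candOK FiC3510.cert 1) = true := by
  decide +kernel

theorem cand1_59_ok : cands59.all (data.candOK FiC3510.cert 1) = true := by
  decide +kernel

theorem cand1_60_ok : cands60.all (data.candOK FiC3510.cert 1) = true := by
  decide +kernel

theorem cand1_61_ok : cands61.all (data.candOK FiC3510.cert 1) = true := by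
  decide +kernel

theorem cand1_62_ok : cands62.all (data.candOK FiC3510.cert 1) = true := by
  decide +kernel

theorem cand1_63_ok : cands63.all (data.candOK FiC3510.cert 1) = true := by
  decide +kernel

theorem cand1_64_ok : cands64.all (data.candOK FiC3510.cert 1) = true := by
  decide +kernel


end Cfsg.Agent.Presented.FiRigid
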