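import Cfsg.Agent.Lib.Presented.Data.FiRigidData
import Cfsg.Agent.Lib.Presented.Data.FiC3510

/-! The candidates are allowed or violate a relation. -/

set_option autoImplicit false
set_option maxRecDepth 20000

namespace Cfsg.Agent.Presented.FiRigid

open Cfsg.Agent.Presented

theorem cand2_0_ok : cands0.all (data.candOK FiC3510.cert 2) = true := by
  decide +kernel

theorem cand2_1_ok : cands1.all (data.candOK FiC3510.cert 2) = true := by
  decide +kernel

theorem cand2_2_ok : cands2.all (data.candOK FiC3510.cert 2) = true := by
  decide +kernel

theorem cand2_3_ok : cands3.all (data.candOK FiC3510.cert 2) = true := by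
  decide +kernel

theorem cand2_4_ok : cands4.all (data.candOK FiC3510.cert 2) = true := by
  decide +kernel

theorem cand2_5_ok : cands5.all (data.candOK FiC3510.cert 2) = true := by
  decide +kernel

theorem cand2_6_ok : cands6.all (data.candOK FiC3510.cert 2) = true := by
  decide +kernel

theorem cand2_7_ok : cands7.all (data.candOK FiC3510.cert 2) = true := by
  decide +kernel

theorem cand2_8_ok : cands8.all (data.candOK FiC3510.cert 2) = true := by
  decide +kernel

theorem cand2_9_ok : cands9.all (data.candOK FiC3510.cert 2) = true := by
  decide +kernel

theorem cand2_10_ok : cands10.all (data.candOK FiC3510.cert 2) = true := by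
  decide +kernel

theorem cand2_11_ok : cands11.all (data.candOK FiC3510.cert 2) = true := by
  decide +kernel

theorem cand2_12_ok : cands12.all (data.candOK FiC3510.cert 2) = true := by
  decide +kernel

theorem cand2_13_ok : cands13.all (data.candOK FiC3510.cert 2) = true := by
  decide +kernel

theorem cand2_14_ok : cands14.all (data.candOK FiC3510.cert 2) = true := by
  decide +kernel

theorem cand2_15_ok : cands15.all (data.candOK FiC3510.cert 2) = true := by
  decide +kernel

theorem cand2_16_ok : cands16.all (data.candOK FiC3510.cert 2) = true := by
  decide +kernel

theorem cand2_17_ok : cands17.all (data.candOK FiC3510.cert 2) = true := by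
  decide +kernel

theorem cand2_18_ok : cands18.all (data.candOK FiC3510.cert 2) = true := by
  decide +kernel

theorem cand2_19_ok : cands19.all (data.candOK FiC3510.cert 2) = true := by
  decide +kernel

theorem cand2_20_ok : cands20.all (data.candOK FiC3510.cert 2) = true := by
  decide +kernel

theorem cand2_21_ok : cands21.all (data.candOK FiC3510.cert 2) = true := by
  decide +kernel


end Cfsg.Agent.Presented.FiRigid
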