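import Cfsg.Agent.Lib.Presented.Data.FiRigidX
import Cfsg.Agent.Lib.Presented.Data.FiRigidData
import Cfsg.Agent.Lib.Presented.Data.FiC3510

/-! A slice of the conjugacy search. -/

set_option autoImplicit false
set_option maxRecDepth 20000

namespace Cfsg.Agent.Presented.FiRigid

open Cfsg.Agent.Presented

theorem conj1_ok : solutions FiC3510.cert data.bs (slice XChain (1 * 220) 220) xWord dxWord = [] := by
  decide +kernel

end Cfsg.Agent.Presented.FiRigid
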