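import Cfsg.Agent.Lib.Presented.Data.FiRigidY
import Cfsg.Agent.Lib.Presented.Data.FiRigidData

/-! A slice of the search. -/

set_option autoImplicit false
set_option maxRecDepth 20000

namespace Cfsg.Agent.Presented.FiRigid

open Cfsg.Agent.Presented

theorem sol22_ok : solutions FiC3510.cert data.bs (slice YChain (22 * 54) 54) yWord (rep 1 yWord) = cands22 := by
  decide +kernel

theorem sol23_ok : solutions FiC3510.cert data.bs (slice YChain (23 * 54) 54) yWord (rep 1 yWord) = cands23 := by
  decide +kernel

theorem sol24_ok : solutions FiC3510.cert data.bs (slice YChain (24 * 54) 54) yWord (rep 1 yWord) = cands24 := by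
  decide +kernel

theorem sol25_ok : solutions FiC3510.cert data.bs (slice YChain (25 * 54) 54) yWord (rep 1 yWord) = cands25 := by
  decide +kernel

theorem sol26_ok : solutions FiC3510.cert data.bs (slice YChain (26 * 54) 54) yWord (rep 1 yWord) = cands26 := by
  decide +kernel

theorem sol27_ok : solutions FiC3510.cert data.bs (slice YChain (27 * 54) 54) yWord (rep 1 yWord) = cands27 := by
  decide +kernel

theorem sol28_ok : solutions FiC3510.cert data.bs (slice YChain (28 * 54) 54) yWord (rep 1 yWord) = cands28 := by
  decide +kernel

theorem sol29_ok : solutions FiC3510.cert data.bs (slice YChain (29 * 54) 54) yWord (rep 1 yWord) = cands29 := by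
  decide +kernel


end Cfsg.Agent.Presented.FiRigid
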