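import Cfsg.Agent.Lib.Presented.Data.FiRigidY
import Cfsg.Agent.Lib.Presented.Data.FiRigidData
import Cfsg.Agent.Lib.Presented.Data.FiRigidSol4

/-! A slice of the search. -/

set_option autoImplicit false
set_option maxRecDepth 20000

namespace Cfsg.Agent.Presented.FiRigid

open Cfsg.Agent.Presented

theorem sol56_ok : solutions FiC3510.cert data.bs (slice YChain (56 * 54) 54) yWord (rep 1 yWord) = cands56 := by
  decide +kernel

theorem sol57_ok : solutions FiC3510.cert data.bs (slice YChain (57 * 54) 54) yWord (rep 1 yWord) = cands57 := by
  decide +kernel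

theorem sol58_ok : solutions FiC3510.cert data.bs (slice YChain (58 * 54) 54) yWord (rep 1 yWord) = cands58 := by
  decide +kernel

theorem sol59_ok : solutions FiC3510.cert data.bs (slice YChain (59 * 54) 54) yWord (rep 1 yWord) = cands59 := by
  decide +kernel

theorem sol60_ok : solutions FiC3510.cert data.bs (slice YChain (60 * 54) 54) yWord (rep 1 yWord) = cands60 := by
  decide +kernel

theorem sol61_ok : solutions FiC3510.cert data.bs (slice YChain (61 * 54) 54) yWord (rep 1 yWord) = cands61 := by
  decide +kernel

theorem sol62_ok : solutions FiC3510.cert data.bs (slice YChain (62 * 54) 54) yWord (rep 1 yWord) = cands62 := by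
  decide +kernel

theorem sol63_ok : solutions FiC3510.cert data.bs (slice YChain (63 * 54) 54) yWord (rep 1 yWord) = cands63 := by
  decide +kernel


end Cfsg.Agent.Presented.FiRigid
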