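import Cfsg.Agent.Lib.Presented.Data.FiRigidY
import Cfsg.Agent.Lib.Presented.Data.FiRigidData

/-! A slice of the search. -/

set_option autoImplicit false
set_option maxRecDepth 20000

namespace Cfsg.Agent.Presented.FiRigid

open Cfsg.Agent.Presented

theorem sol30_ok : solutions FiC3510.cert data.bs (slice YChain (30 * 54) 54) yWord (rep 1 yWord) = cands30 := by
  decide +kernel

theorem sol31_ok : solutions FiC3510.cert data.bs (slice YChain (31 * 54) 54) yWord (rep 1 yWord) = cands31 := by
  decide +kernel

theorem sol32_ok : solutions FiC3510.cert data.bs (slice YChain (32 * 54) 54) yWord (rep 1 yWord) = cands32 := by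
  decide +kernel

theorem sol33_ok : solutions FiC3510.cert data.bs (slice YChain (33 * 54) 54) yWord (rep 1 yWord) = cands33 := by
  decide +kernel

theorem sol34_ok : solutions FiC3510.cert data.bs (slice YChain (34 * 54) 54) yWord (rep 1 yWord) = cands34 := by
  decide +kernel

theorem sol35_ok : solutions FiC3510.cert data.bs (slice YChain (35 * 54) 54) yWord (rep 1 yWord) = cands35 := by
  decide +kernel

theorem sol36_ok : solutions FiC3510.cert data.bs (slice YChain (36 * 54) 54) yWord (rep 1 yWord) = cands36 := by
  decide +kernel

theorem sol37_ok : solutions FiC3510.cert data.bs (slice YChain (37 * 54) 54) yWord (rep 1 yWord) = cands37 := by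
  decide +kernel


end Cfsg.Agent.Presented.FiRigid
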