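import Cfsg.Agent.Lib.Presented.Data.FiRigidY
import Cfsg.Agent.Lib.Presented.Data.FiRigidData

/-! A slice of the search. -/

set_option autoImplicit false
set_option maxRecDepth 20000

namespace Cfsg.Agent.Presented.FiRigid

open Cfsg.Agent.Presented

theorem sol5_ok : solutions FiC3510.cert data.bs (slice YChain (5 * 54) 54) yWord (rep 1 yWord) = cands5 := by
  decide +kernel

theorem sol6_ok : solutions FiC3510.cert data.bs (slice YChain (6 * 54) 54) yWord (rep 1 yWord) = cands6 := by
  decide +kernel

theorem sol7_ok : solutions FiC3510.cert data.bs (slice YChain (7 * 54) 54) yWord (rep 1 yWord) = cands7 := by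
  decide +kernel

theorem sol8_ok : solutions FiC3510.cert data.bs (slice YChain (8 * 54) 54) yWord (rep 1 yWord) = cands8 := by
  decide +kernel

theorem sol9_ok : solutions FiC3510.cert data.bs (slice YChain (9 * 54) 54) yWord (rep 1 yWord) = cands9 := by
  decide +kernel


end Cfsg.Agent.Presented.FiRigid
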