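import Cfsg.Agent.Lib.Presented.Data.FiRigidY
import Cfsg.Agent.Lib.Presented.Data.FiRigidData

/-! A slice of the search. -/

set_option autoImplicit false
set_option maxRecDepth 20000

namespace Cfsg.Agent.Presented.FiRigid

open Cfsg.Agent.Presented

theorem sol10_ok : solutions FiC3510.cert data.bs (slice YChain (10 * 54) 54) yWord (rep 1 yWord) = cands10 := by
  decide +kernel

theorem sol11_ok : solutions FiC3510.cert data.bs (slice YChain (11 * 54) 54) yWord (rep 1 yWord) = cands11 := by
  decide +kernel

theorem sol12_ok : solutions FiC3510.cert data.bs (slice YChain (12 * 54) 54) yWord (rep 1 yWord) = cands12 := by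
  decide +kernel

theorem sol13_ok : solutions FiC3510.cert data.bs (slice YChain (13 * 54) 54) yWord (rep 1 yWord) = cands13 := by
  decide +kernel

theorem sol14_ok : solutions FiC3510.cert data.bs (slice YChain (14 * 54) 54) yWord (rep 1 yWord) = cands14 := by
  decide +kernel

theorem sol15_ok : solutions FiC3510.cert data.bs (slice YChain (15 * 54) 54) yWord (rep 1 yWord) = cands15 := by
  decide +kernel

theorem sol16_ok : solutions FiC3510.cert data.bs (slice YChain (16 * 54) 54) yWord (rep 1 yWord) = cands16 := by
  decide +kernel

theorem sol17_ok : solutions FiC3510.cert data.bs (slice YChain (17 * 54) 54) yWord (rep 1 yWord) = cands17 := by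
  decide +kernel

theorem sol18_ok : solutions FiC3510.cert data.bs (slice YChain (18 * 54) 54) yWord (rep 1 yWord) = cands18 := by
  decide +kernel

theorem sol19_ok : solutions FiC3510.cert data.bs (slice YChain (19 * 54) 54) yWord (rep 1 yWord) = cands19 := by
  decide +kernel

theorem sol20_ok : solutions FiC3510.cert data.bs (slice YChain (20 * 54) 54) yWord (rep 1 yWord) = cands20 := by
  decide +kernel

theorem sol21_ok : solutions FiC3510.cert data.bs (slice YChain (21 * 54) 54) yWord (rep 1 yWord) = cands21 := by
  decide +kernel


end Cfsg.Agent.Presented.FiRigid
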