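import Cfsg.Agent.Lib.Presented.Data.FiRigidY
import Cfsg.Agent.Lib.Presented.Data.FiRigidData
import Cfsg.Agent.Lib.Presented.Data.FiRigidSol1

/-! A slice of the search. -/

set_option autoImplicit false
set_option maxRecDepth 20000

namespace Cfsg.Agent.Presented.FiRigid

open Cfsg.Agent.Presented

theorem sol40_ok : solutions FiC3510.cert data.bs (slice YChain (40 * 54) 54) yWord (rep 1 yWord) = cands40 := by
  decide +kernel

theorem sol41_ok : solutions FiC3510.cert data.bs (slice YChain (41 * 54) 54) yWord (rep 1 yWord) = cands41 := by
  decide +kernel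

theorem sol42_ok : solutions FiC3510.cert data.bs (slice YChain (42 * 54) 54) yWord (rep 1 yWord) = cands42 := by
  decide +kernel

theorem sol43_ok : solutions FiC3510.cert data.bs (slice YChain (43 * 54) 54) yWord (rep 1 yWord) = cands43 := by
  decide +kernel

theorem sol44_ok : solutions FiC3510.cert data.bs (slice YChain (44 * 54) 54) yWord (rep 1 yWord) = cands44 := by
  decide +kernel

theorem sol45_ok : solutions FiC3510.cert data.bs (slice YChain (45 * 54) 54) yWord (rep 1 yWord) = cands45 := by
  decide +kernel

theorem sol46_ok : solutions FiC3510.cert data.bs (slice YChain (46 * 54) 54) yWord (rep 1 yWord) = cands46 := by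
  decide +kernel

theorem sol47_ok : solutions FiC3510.cert data.bs (slice YChain (47 * 54) 54) yWord (rep 1 yWord) = cands47 := by
  decide +kernel

theorem sol48_ok : solutions FiC3510.cert data.bs (slice YChain (48 * 54) 54) yWord (rep 1 yWord) = cands48 := by
  decide +kernel


end Cfsg.Agent.Presented.FiRigid
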