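import Cfsg.Agent.Lib.Presented.Data.FiRigidX

/-! The chain is checked level by level. -/

set_option autoImplicit false
set_option maxRecDepth 20000

namespace Cfsg.Agent.Presented.FiRigid

open Cfsg.Agent.Presented

theorem XLev0_ok : rlevelOK FiC3510.cert [] XLev0 = true := by
  decide +kernel

theorem XLev1_ok : rlevelOK FiC3510.cert [0] XLev1 = true := by
  decide +kernel

theorem XLev2_ok : rlevelOK FiC3510.cert [4, 0] XLev2 = true := by
  decide +kernel

theorem XLev3_ok : rlevelOK FiC3510.cert [16, 4, 0] XLev3 = true := by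
  decide +kernel

theorem XLev4_ok : rlevelOK FiC3510.cert [69, 16, 4, 0] XLev4 = true := by
  decide +kernel

theorem XLev5_ok : rlevelOK FiC3510.cert [38, 69, 16, 4, 0] XLev5 = true := by
  decide +kernel

theorem XChain_ok : rchainOK FiC3510.cert (XChain.map Prod.fst) [] = true :=
  (rchainOK_cons XLev0_ok (rchainOK_cons XLev1_ok (rchainOK_cons XLev2_ok (rchainOK_cons XLev3_ok (rchainOK_cons XLev4_ok (rchainOK_cons XLev5_ok rfl))))))

theorem XChain_size : rsize (XChain.map Prod.fst) = 64561751654400 := by
  decide +kernel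

end Cfsg.Agent.Presented.FiRigid
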