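import Cfsg.Agent.Lib.Presented.Data.FiU12672

/-! Generated certificate checks. -/

set_option autoImplicit false
set_option maxRecDepth 20000

namespace Cfsg.Agent.Presented.FiU12672

theorem E_8 : checkBlock cert.checkEdge (cert.N * cert.m) 12 32768 = true := by decide +kernel

theorem E_9 : checkBlock cert.checkEdge (cert.N * cert.m) 12 36864 = true := by decide +kernel

theorem E_10 : checkBlock cert.checkEdge (cert.N * cert.m) 12 40960 = true := by decide +kernel

theorem E_11 : checkBlock cert.checkEdge (cert.N * cert.m) 12 45056 = true := by decide +kernel

theorem E_12 : checkBlock cert.checkEdge (cert.N * cert.m) 12 49152 = true := by decide +kernel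

theorem E_13 : checkBlock cert.checkEdge (cert.N * cert.m) 12 53248 = true := by decide +kernel

theorem E_14 : checkBlock cert.checkEdge (cert.N * cert.m) 12 57344 = true := by decide +kernel

theorem E_15 : checkBlock cert.checkEdge (cert.N * cert.m) 12 61440 = true := by decide +kernel

end Cfsg.Agent.Presented.FiU12672
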