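import Cfsg.Agent.Lib.Presented.Data.FiU12672

/-! Generated certificate checks. -/

set_option autoImplicit false
set_option maxRecDepth 20000

namespace Cfsg.Agent.Presented.FiU12672

theorem E_16 : checkBlock cert.checkEdge (cert.N * cert.m) 12 65536 = true := by decide +kernel

theorem E_17 : checkBlock cert.checkEdge (cert.N * cert.m) 12 69632 = true := by decide +kernel

theorem E_18 : checkBlock cert.checkEdge (cert.N * cert.m) 12 73728 = true := by decide +kernel

theorem E_19 : checkBlock cert.checkEdge (cert.N * cert.m) 12 77824 = true := by decide +kernel

theorem E_20 : checkBlock cert.checkEdge (cert.N * cert.m) 12 81920 = true := by decide +kernel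

theorem E_21 : checkBlock cert.checkEdge (cert.N * cert.m) 12 86016 = true := by decide +kernel

theorem E_22 : checkBlock cert.checkEdge (cert.N * cert.m) 12 90112 = true := by decide +kernel

theorem E_23 : checkBlock cert.checkEdge (cert.N * cert.m) 12 94208 = true := by decide +kernel

end Cfsg.Agent.Presented.FiU12672
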