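import Cfsg.Agent.Lib.Presented.Data.FiU12672

/-! Generated certificate checks. -/

set_option autoImplicit false
set_option maxRecDepth 20000

namespace Cfsg.Agent.Presented.FiU12672

theorem E_24 : checkBlock cert.checkEdge (cert.N * cert.m) 12 98304 = true := by decide +kernel

end Cfsg.Agent.Presented.FiU12672
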