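import Cfsg.Agent.Lib.Presented.Data.FiU12672E0
import Cfsg.Agent.Lib.Presented.Data.FiU12672E1
import Cfsg.Agent.Lib.Presented.Data.FiU12672E2
import Cfsg.Agent.Lib.Presented.Data.FiU12672E3

/-! Generated certificate checks. -/

set_option autoImplicit false
set_option maxRecDepth 20000

namespace Cfsg.Agent.Presented.FiU12672

theorem cert_edgesOK : cert.edgesOK = true :=
  checkBelow_of_block (by decide +kernel)
    (checkBlock_join 16
    (checkBlock_join 15
    (checkBlock_join 14
    (checkBlock_join 13
    (checkBlock_join 12
    E_0
    E_1)
    (checkBlock_join 12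
    E_2
    E_3))
    (checkBlock_join 13
    (checkBlock_join 12
    E_4
    E_5)
    (checkBlock_join 12
    E_6
    E_7)))
    (checkBlock_join 14
    (checkBlock_join 13
    (checkBlock_join 12
    E_8
    E_9)
    (checkBlock_join 12
    E_10
    E_11))
    (checkBlock_join 13
    (checkBlock_join 12
    E_12
    E_13)
    (checkBlock_join 12
    E_14
    E_15))))
    (checkBlock_join 15
    (checkBlock_join 14
    (checkBlock_join 13
    (checkBlock_join 12
    E_16
    E_17)
    (checkBlock_join 12
    E_18
    E_19))
    (checkBlock_join 13
    (checkBlock_join 12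
    E_20
    E_21)
    (checkBlock_join 12
    E_22
    E_23)))
    (checkBlock_join 14
    (checkBlock_join 13
    (checkBlock_join 12
    E_24
    (checkBlock_ge 12 102400 (Nat.le_of_ble_eq_true (by decide +kernel))))
    (checkBlock_ge 13 106496 (Nat.le_of_ble_eq_true (by decide +kernel))))
    (checkBlock_ge 14 114688 (Nat.le_of_ble_eq_true (by decide +kernel))))))

end Cfsg.Agent.Presented.FiU12672
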