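import Mathlib

/-! Generated data: rows, as base three codes, of seven Clifford elements in the spin module mod 3. -/

set_option autoImplicit false

namespace Cfsg.Agent.Presented.E7Cliff

/-- The rows of the matrices. -/
def rows : List (List ℕ) :=
  [[15, 54, 56, 3, 1217, 4377, 4545, 297],
   [162, 245, 731, 4395, 1, 168, 180, 1728],
   [18, 29, 1, 24, 1458, 2349, 81, 1944],
   [25, 33, 74, 30, 2108, 2433, 5274, 4671],
   [181, 277, 749, 4413, 1620, 2511, 891, 5346],
   [24, 28, 54, 9, 1946, 2271, 4383, 783],
   [26, 30, 65, 57, 2027, 2676, 6003, 2484]]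

end Cfsg.Agent.Presented.E7Cliff
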