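import Mathlib

/-! Generated data: seven vectors of the symplectic six-space mod 2 and transporting words. -/

set_option autoImplicit false

namespace Cfsg.Agent.Presented.E7Sp6

/-- The vectors, as binary codes. -/
def vecs : List ℕ := [61, 8, 9, 26, 16, 22, 12]

/-- Words leading from the first vector to the non-zero vectors, in increasing order of codes. -/
def words : List (List ℕ) :=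
  [[1, 0, 2],
   [1, 0, 2, 3, 4, 5, 6, 2, 3],
   [1, 0, 2, 1, 3, 4],
   [1, 2, 3, 4, 5, 6, 2, 1, 3, 2, 4, 3, 6, 2, 1, 0],
   [1, 0, 2, 1, 6],
   [1, 0, 2, 1, 3, 2, 4, 3, 5],
   [1, 0, 2, 3, 4, 6],
   [1, 0],
   [1, 0, 2, 1],
   [1, 0, 2, 1, 3, 2, 4],
   [1, 0, 2, 3, 4],
   [1, 0, 2, 1, 6, 2],
   [1, 0, 2, 6],
   [1, 0, 2, 3, 4, 6, 2],
   [1, 0, 2, 1, 3, 4, 6],
   [1, 0, 2, 1, 3, 2, 4, 3],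
   [1, 0, 2, 3, 4, 5, 6],
   [1, 0, 2, 3, 4, 5, 6, 2, 3, 4],
   [1, 0, 2, 1, 3],
   [1, 0, 2, 3, 4, 6, 2, 3],
   [1, 0, 2, 1, 3, 4, 5],
   [1, 0, 2, 1, 3, 2, 4, 3, 5, 4],
   [1, 0, 2, 3, 6],
   [1, 0, 2, 3, 4, 5, 6, 2],
   [1, 0, 2, 1, 3, 4, 5, 6],
   [1, 0, 2, 1, 3, 2],
   [1, 0, 2, 3],
   [1, 0, 2, 1, 3, 2, 4, 5],
   [1, 0, 2, 3, 4, 5],
   [1, 0, 2, 3, 6, 2],
   [1, 0, 2, 1, 3, 6],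
   [1, 2, 3, 4, 5],
   [1, 2, 3, 4, 6, 2, 1, 3],
   [1, 2, 3, 4, 5, 6, 2, 1, 3, 2, 4, 6],
   [1, 2, 3, 6, 2],
   [1, 2, 3, 4, 6, 2, 1, 3, 2, 6],
   [1, 2, 3, 4, 5, 6, 2],
   [1, 2, 3],
   [1, 2, 3, 4, 5, 6, 2, 1, 3, 4],
   [1, 2, 3, 4, 6, 2, 1, 3, 2],
   [1, 2, 3, 4, 6, 2, 3],
   [1, 2, 3, 6],
   [1, 2, 3, 6, 2, 1],
   [1, 2, 3, 4, 5, 6],
   [1, 2, 3, 4, 5, 6, 2, 1],
   [1, 2, 3, 4, 5, 6, 2, 1, 3, 2, 4],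
   [1, 2, 3, 4, 5, 6, 2, 3, 4],
   [1, 2, 6],
   [1, 2, 3, 4, 5, 6, 2, 1, 3, 2, 4, 3, 6, 2],
   [1, 2, 3, 4, 5, 6, 2, 1, 3, 2, 6],
   [1, 2, 3, 4, 6, 2],
   [1, 2, 3, 4, 5, 6, 2, 1, 3, 2, 4, 3],
   [1],
   [1, 2, 3, 4],
   [1, 2, 3, 4, 5, 6, 2, 1, 3],
   [1, 2, 3, 4, 5, 6, 2, 1, 3, 2, 4, 3, 6],
   [1, 2, 3, 4, 5, 6, 2, 1, 3, 2, 4, 3, 6, 2, 1],
   [1, 2, 3, 4, 6],
   [1, 2, 3, 4, 6, 2, 1],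
   [1, 2],
   [],
   [1, 2, 3, 4, 5, 6, 2, 1, 3, 2],
   [1, 2, 3, 4, 5, 6, 2, 3]]

/-- The non-adjacent pairs, with words leading to them from the pair `0, 2`. -/
def pairWords : List (ℕ × ℕ × List ℕ) :=
  [(0, 2, []),
   (0, 3, [3, 2]),
   (0, 4, [3, 2, 4, 3]),
   (0, 5, [3, 2, 4, 3, 5, 4]),
   (0, 6, [6, 2]),
   (1, 3, [3, 2, 1, 0]),
   (1, 4, [3, 2, 1, 0, 4, 3]),
   (1, 5, [3, 2, 1, 0, 4, 3, 5, 4]),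
   (1, 6, [6, 2, 1, 0]),
   (2, 4, [3, 2, 1, 0, 4, 3, 2, 1]),
   (2, 5, [3, 2, 1, 0, 4, 3, 2, 1, 5, 4]),
   (3, 5, [3, 2, 1, 0, 4, 3, 2, 1, 5, 4, 3, 2]),
   (3, 6, [1, 0, 2, 1, 3, 2, 1, 0, 4, 3, 2, 1, 6, 2, 3, 4]),
   (4, 6, [1, 0, 2, 1, 3, 2, 1, 0, 4, 3, 2, 1, 6, 2]),
   (5, 6, [1, 0, 2, 1, 3, 2, 1, 0, 4, 3, 2, 1, 5, 4, 6, 2])]

end Cfsg.Agent.Presented.E7Sp6
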