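import Cfsg.Agent.Lib.Presented.Data.Fi23C31671

/-! Generated certificate checks. -/

set_option autoImplicit false
set_option maxRecDepth 20000

namespace Cfsg.Agent.Presented.Fi23C31671

theorem wordsOK_32 : checkBlock cert.checkWords cert.N 8 8192 = true := by decide +kernel

theorem wordsOK_33 : checkBlock cert.checkWords cert.N 8 8448 = true := by decide +kernel

theorem wordsOK_34 : checkBlock cert.checkWords cert.N 8 8704 = true := by decide +kernel

theorem wordsOK_35 : checkBlock cert.checkWords cert.N 8 8960 = true := by decide +kernel

theorem wordsOK_36 : checkBlock cert.checkWords cert.N 8 9216 = true := by decide +kernel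

theorem wordsOK_37 : checkBlock cert.checkWords cert.N 8 9472 = true := by decide +kernel

theorem wordsOK_38 : checkBlock cert.checkWords cert.N 8 9728 = true := by decide +kernel

theorem wordsOK_39 : checkBlock cert.checkWords cert.N 8 9984 = true := by decide +kernel

theorem wordsOK_40 : checkBlock cert.checkWords cert.N 8 10240 = true := by decide +kernel

theorem wordsOK_41 : checkBlock cert.checkWords cert.N 8 10496 = true := by decide +kernel

end Cfsg.Agent.Presented.Fi23C31671
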