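import Cfsg.Agent.Lib.Presented.Data.Fi23C31671

/-! Generated certificate checks. -/

set_option autoImplicit false
set_option maxRecDepth 20000

namespace Cfsg.Agent.Presented.Fi23C31671

theorem wordsOK_42 : checkBlock cert.checkWords cert.N 8 10752 = true := by decide +kernel

theorem wordsOK_43 : checkBlock cert.checkWords cert.N 8 11008 = true := by decide +kernel

theorem wordsOK_44 : checkBlock cert.checkWords cert.N 8 11264 = true := by decide +kernel

theorem wordsOK_45 : checkBlock cert.checkWords cert.N 8 11520 = true := by decide +kernel

theorem wordsOK_46 : checkBlock cert.checkWords cert.N 8 11776 = true := by decide +kernel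

theorem wordsOK_47 : checkBlock cert.checkWords cert.N 8 12032 = true := by decide +kernel

theorem wordsOK_48 : checkBlock cert.checkWords cert.N 8 12288 = true := by decide +kernel

theorem wordsOK_49 : checkBlock cert.checkWords cert.N 8 12544 = true := by decide +kernel

theorem wordsOK_50 : checkBlock cert.checkWords cert.N 8 12800 = true := by decide +kernel

theorem wordsOK_51 : checkBlock cert.checkWords cert.N 8 13056 = true := by decide +kernel

end Cfsg.Agent.Presented.Fi23C31671
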