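import Cfsg.Agent.Lib.Presented.Data.Fi23C31671

/-! Generated certificate checks. -/

set_option autoImplicit false
set_option maxRecDepth 20000

namespace Cfsg.Agent.Presented.Fi23C31671

theorem wordsOK_52 : checkBlock cert.checkWords cert.N 8 13312 = true := by decide +kernel

theorem wordsOK_53 : checkBlock cert.checkWords cert.N 8 13568 = true := by decide +kernel

theorem wordsOK_54 : checkBlock cert.checkWords cert.N 8 13824 = true := by decide +kernel

theorem wordsOK_55 : checkBlock cert.checkWords cert.N 8 14080 = true := by decide +kernel

theorem wordsOK_56 : checkBlock cert.checkWords cert.N 8 14336 = true := by decide +kernel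

theorem wordsOK_57 : checkBlock cert.checkWords cert.N 8 14592 = true := by decide +kernel

theorem wordsOK_58 : checkBlock cert.checkWords cert.N 8 14848 = true := by decide +kernel

theorem wordsOK_59 : checkBlock cert.checkWords cert.N 8 15104 = true := by decide +kernel

theorem wordsOK_60 : checkBlock cert.checkWords cert.N 8 15360 = true := by decide +kernel

theorem wordsOK_61 : checkBlock cert.checkWords cert.N 8 15616 = true := by decide +kernel

end Cfsg.Agent.Presented.Fi23C31671
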