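import Cfsg.Agent.Lib.Presented.Data.Fi23C31671

/-! Generated certificate checks. -/

set_option autoImplicit false
set_option maxRecDepth 20000

namespace Cfsg.Agent.Presented.Fi23C31671

theorem wordsOK_62 : checkBlock cert.checkWords cert.N 8 15872 = true := by decide +kernel

theorem wordsOK_63 : checkBlock cert.checkWords cert.N 8 16128 = true := by decide +kernel

theorem wordsOK_64 : checkBlock cert.checkWords cert.N 8 16384 = true := by decide +kernel

theorem wordsOK_65 : checkBlock cert.checkWords cert.N 8 16640 = true := by decide +kernel

theorem wordsOK_66 : checkBlock cert.checkWords cert.N 8 16896 = true := by decide +kernel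

theorem wordsOK_67 : checkBlock cert.checkWords cert.N 8 17152 = true := by decide +kernel

theorem wordsOK_68 : checkBlock cert.checkWords cert.N 8 17408 = true := by decide +kernel

theorem wordsOK_69 : checkBlock cert.checkWords cert.N 8 17664 = true := by decide +kernel

theorem wordsOK_70 : checkBlock cert.checkWords cert.N 8 17920 = true := by decide +kernel

theorem wordsOK_71 : checkBlock cert.checkWords cert.N 8 18176 = true := by decide +kernel

end Cfsg.Agent.Presented.Fi23C31671
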