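import Cfsg.Agent.Lib.Presented.Data.Fi23C31671

/-! Generated certificate checks. -/

set_option autoImplicit false
set_option maxRecDepth 20000

namespace Cfsg.Agent.Presented.Fi23C31671

theorem wordsOK_72 : checkBlock cert.checkWords cert.N 8 18432 = true := by decide +kernel

theorem wordsOK_73 : checkBlock cert.checkWords cert.N 8 18688 = true := by decide +kernel

theorem wordsOK_74 : checkBlock cert.checkWords cert.N 8 18944 = true := by decide +kernel

theorem wordsOK_75 : checkBlock cert.checkWords cert.N 8 19200 = true := by decide +kernel

theorem wordsOK_76 : checkBlock cert.checkWords cert.N 8 19456 = true := by decide +kernel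

theorem wordsOK_77 : checkBlock cert.checkWords cert.N 8 19712 = true := by decide +kernel

theorem wordsOK_78 : checkBlock cert.checkWords cert.N 8 19968 = true := by decide +kernel

theorem wordsOK_79 : checkBlock cert.checkWords cert.N 8 20224 = true := by decide +kernel

theorem wordsOK_80 : checkBlock cert.checkWords cert.N 8 20480 = true := by decide +kernel

theorem wordsOK_81 : checkBlock cert.checkWords cert.N 8 20736 = true := by decide +kernel

end Cfsg.Agent.Presented.Fi23C31671
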