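import Cfsg.Agent.Lib.Presented.Data.Fi23C31671

/-! Generated certificate checks. -/

set_option autoImplicit false
set_option maxRecDepth 20000

namespace Cfsg.Agent.Presented.Fi23C31671

theorem wordsOK_82 : checkBlock cert.checkWords cert.N 8 20992 = true := by decide +kernel

theorem wordsOK_83 : checkBlock cert.checkWords cert.N 8 21248 = true := by decide +kernel

theorem wordsOK_84 : checkBlock cert.checkWords cert.N 8 21504 = true := by decide +kernel

theorem wordsOK_85 : checkBlock cert.checkWords cert.N 8 21760 = true := by decide +kernel

theorem wordsOK_86 : checkBlock cert.checkWords cert.N 8 22016 = true := by decide +kernel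

theorem wordsOK_87 : checkBlock cert.checkWords cert.N 8 22272 = true := by decide +kernel

theorem wordsOK_88 : checkBlock cert.checkWords cert.N 8 22528 = true := by decide +kernel

theorem wordsOK_89 : checkBlock cert.checkWords cert.N 8 22784 = true := by decide +kernel

theorem wordsOK_90 : checkBlock cert.checkWords cert.N 8 23040 = true := by decide +kernel

theorem wordsOK_91 : checkBlock cert.checkWords cert.N 8 23296 = true := by decide +kernel

end Cfsg.Agent.Presented.Fi23C31671
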