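import Cfsg.Agent.Lib.Presented.Data.Fi23C31671

/-! Generated certificate checks. -/

set_option autoImplicit false
set_option maxRecDepth 20000

namespace Cfsg.Agent.Presented.Fi23C31671

theorem wordsOK_92 : checkBlock cert.checkWords cert.N 8 23552 = true := by decide +kernel

theorem wordsOK_93 : checkBlock cert.checkWords cert.N 8 23808 = true := by decide +kernel

theorem wordsOK_94 : checkBlock cert.checkWords cert.N 8 24064 = true := by decide +kernel

theorem wordsOK_95 : checkBlock cert.checkWords cert.N 8 24320 = true := by decide +kernel

theorem wordsOK_96 : checkBlock cert.checkWords cert.N 8 24576 = true := by decide +kernel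

theorem wordsOK_97 : checkBlock cert.checkWords cert.N 8 24832 = true := by decide +kernel

theorem wordsOK_98 : checkBlock cert.checkWords cert.N 8 25088 = true := by decide +kernel

theorem wordsOK_99 : checkBlock cert.checkWords cert.N 8 25344 = true := by decide +kernel

theorem wordsOK_100 : checkBlock cert.checkWords cert.N 8 25600 = true := by decide +kernel

theorem wordsOK_101 : checkBlock cert.checkWords cert.N 8 25856 = true := by decide +kernel

end Cfsg.Agent.Presented.Fi23C31671
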