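import Cfsg.Agent.Lib.Presented.Data.Fi23C31671

/-! Generated certificate checks. -/

set_option autoImplicit false
set_option maxRecDepth 20000

namespace Cfsg.Agent.Presented.Fi23C31671

theorem wordsOK_102 : checkBlock cert.checkWords cert.N 8 26112 = true := by decide +kernel

theorem wordsOK_103 : checkBlock cert.checkWords cert.N 8 26368 = true := by decide +kernel

theorem wordsOK_104 : checkBlock cert.checkWords cert.N 8 26624 = true := by decide +kernel

theorem wordsOK_105 : checkBlock cert.checkWords cert.N 8 26880 = true := by decide +kernel

theorem wordsOK_106 : checkBlock cert.checkWords cert.N 8 27136 = true := by decide +kernel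

theorem wordsOK_107 : checkBlock cert.checkWords cert.N 8 27392 = true := by decide +kernel

theorem wordsOK_108 : checkBlock cert.checkWords cert.N 8 27648 = true := by decide +kernel

theorem wordsOK_109 : checkBlock cert.checkWords cert.N 8 27904 = true := by decide +kernel

theorem wordsOK_110 : checkBlock cert.checkWords cert.N 8 28160 = true := by decide +kernel

theorem wordsOK_111 : checkBlock cert.checkWords cert.N 8 28416 = true := by decide +kernel

end Cfsg.Agent.Presented.Fi23C31671
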