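import Cfsg.Agent.Lib.Presented.Data.Fi23C31671

/-! Generated certificate checks. -/

set_option autoImplicit false
set_option maxRecDepth 20000

namespace Cfsg.Agent.Presented.Fi23C31671

theorem wordsOK_112 : checkBlock cert.checkWords cert.N 8 28672 = true := by decide +kernel

theorem wordsOK_113 : checkBlock cert.checkWords cert.N 8 28928 = true := by decide +kernel

theorem wordsOK_114 : checkBlock cert.checkWords cert.N 8 29184 = true := by decide +kernel

theorem wordsOK_115 : checkBlock cert.checkWords cert.N 8 29440 = true := by decide +kernel

theorem wordsOK_116 : checkBlock cert.checkWords cert.N 8 29696 = true := by decide +kernel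

theorem wordsOK_117 : checkBlock cert.checkWords cert.N 8 29952 = true := by decide +kernel

theorem wordsOK_118 : checkBlock cert.checkWords cert.N 8 30208 = true := by decide +kernel

theorem wordsOK_119 : checkBlock cert.checkWords cert.N 8 30464 = true := by decide +kernel

theorem wordsOK_120 : checkBlock cert.checkWords cert.N 8 30720 = true := by decide +kernel

theorem wordsOK_121 : checkBlock cert.checkWords cert.N 8 30976 = true := by decide +kernel

end Cfsg.Agent.Presented.Fi23C31671
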