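import Cfsg.Agent.Lib.Presented.Data.Fi23C31671

/-! Generated certificate checks. -/

set_option autoImplicit false
set_option maxRecDepth 20000

namespace Cfsg.Agent.Presented.Fi23C31671

theorem edgesOK_40 : checkBlock cert.checkEdge (cert.N * cert.m) 12 163840 = true := by decide +kernel

theorem edgesOK_41 : checkBlock cert.checkEdge (cert.N * cert.m) 12 167936 = true := by decide +kernel

theorem edgesOK_42 : checkBlock cert.checkEdge (cert.N * cert.m) 12 172032 = true := by decide +kernel

theorem edgesOK_43 : checkBlock cert.checkEdge (cert.N * cert.m) 12 176128 = true := by decide +kernel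

theorem edgesOK_44 : checkBlock cert.checkEdge (cert.N * cert.m) 12 180224 = true := by decide +kernel

theorem edgesOK_45 : checkBlock cert.checkEdge (cert.N * cert.m) 12 184320 = true := by decide +kernel

theorem edgesOK_46 : checkBlock cert.checkEdge (cert.N * cert.m) 12 188416 = true := by decide +kernel

theorem edgesOK_47 : checkBlock cert.checkEdge (cert.N * cert.m) 12 192512 = true := by decide +kernel

theorem edgesOK_48 : checkBlock cert.checkEdge (cert.N * cert.m) 12 196608 = true := by decide +kernel

theorem edgesOK_49 : checkBlock cert.checkEdge (cert.N * cert.m) 12 200704 = true := by decide +kernel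

end Cfsg.Agent.Presented.Fi23C31671
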