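import Cfsg.Agent.Lib.Presented.Data.Fi23C31671

/-! Generated certificate checks. -/

set_option autoImplicit false
set_option maxRecDepth 20000

namespace Cfsg.Agent.Presented.Fi23C31671

theorem edgesOK_60 : checkBlock cert.checkEdge (cert.N * cert.m) 12 245760 = true := by decide +kernel

theorem edgesOK_61 : checkBlock cert.checkEdge (cert.N * cert.m) 12 249856 = true := by decide +kernel

theorem edgesOK_62 : checkBlock cert.checkEdge (cert.N * cert.m) 12 253952 = true := by decide +kernel

theorem edgesOK_63 : checkBlock cert.checkEdge (cert.N * cert.m) 12 258048 = true := by decide +kernel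

theorem edgesOK_64 : checkBlock cert.checkEdge (cert.N * cert.m) 12 262144 = true := by decide +kernel

theorem edgesOK_65 : checkBlock cert.checkEdge (cert.N * cert.m) 12 266240 = true := by decide +kernel

theorem edgesOK_66 : checkBlock cert.checkEdge (cert.N * cert.m) 12 270336 = true := by decide +kernel

theorem edgesOK_67 : checkBlock cert.checkEdge (cert.N * cert.m) 12 274432 = true := by decide +kernel

theorem edgesOK_68 : checkBlock cert.checkEdge (cert.N * cert.m) 12 278528 = true := by decide +kernel

theorem edgesOK_69 : checkBlock cert.checkEdge (cert.N * cert.m) 12 282624 = true := by decide +kernel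

end Cfsg.Agent.Presented.Fi23C31671
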