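import Cfsg.Agent.Lib.Presented.Data.Fi23C31671

/-! Generated certificate checks. -/

set_option autoImplicit false
set_option maxRecDepth 20000

namespace Cfsg.Agent.Presented.Fi23C31671

theorem edgesOK_70 : checkBlock cert.checkEdge (cert.N * cert.m) 12 286720 = true := by decide +kernel

theorem edgesOK_71 : checkBlock cert.checkEdge (cert.N * cert.m) 12 290816 = true := by decide +kernel

theorem edgesOK_72 : checkBlock cert.checkEdge (cert.N * cert.m) 12 294912 = true := by decide +kernel

theorem edgesOK_73 : checkBlock cert.checkEdge (cert.N * cert.m) 12 299008 = true := by decide +kernel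

theorem edgesOK_74 : checkBlock cert.checkEdge (cert.N * cert.m) 12 303104 = true := by decide +kernel

theorem edgesOK_75 : checkBlock cert.checkEdge (cert.N * cert.m) 12 307200 = true := by decide +kernel

theorem edgesOK_76 : checkBlock cert.checkEdge (cert.N * cert.m) 12 311296 = true := by decide +kernel

theorem edgesOK_77 : checkBlock cert.checkEdge (cert.N * cert.m) 12 315392 = true := by decide +kernel

theorem wordsOK_0 : checkBlock cert.checkWords cert.N 8 0 = true := by decide +kernel

theorem wordsOK_1 : checkBlock cert.checkWords cert.N 8 256 = true := by decide +kernel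

end Cfsg.Agent.Presented.Fi23C31671
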