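import Cfsg.Agent.Lib.Presented.Data.Fi23C31671

/-! Generated certificate checks. -/

set_option autoImplicit false
set_option maxRecDepth 20000

namespace Cfsg.Agent.Presented.Fi23C31671

theorem wordsOK_12 : checkBlock cert.checkWords cert.N 8 3072 = true := by decide +kernel

theorem wordsOK_13 : checkBlock cert.checkWords cert.N 8 3328 = true := by decide +kernel

theorem wordsOK_14 : checkBlock cert.checkWords cert.N 8 3584 = true := by decide +kernel

theorem wordsOK_15 : checkBlock cert.checkWords cert.N 8 3840 = true := by decide +kernel

theorem wordsOK_16 : checkBlock cert.checkWords cert.N 8 4096 = true := by decide +kernel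

theorem wordsOK_17 : checkBlock cert.checkWords cert.N 8 4352 = true := by decide +kernel

theorem wordsOK_18 : checkBlock cert.checkWords cert.N 8 4608 = true := by decide +kernel

theorem wordsOK_19 : checkBlock cert.checkWords cert.N 8 4864 = true := by decide +kernel

theorem wordsOK_20 : checkBlock cert.checkWords cert.N 8 5120 = true := by decide +kernel

theorem wordsOK_21 : checkBlock cert.checkWords cert.N 8 5376 = true := by decide +kernel

end Cfsg.Agent.Presented.Fi23C31671
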