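import Cfsg.Agent.Lib.Presented.Data.Fi23C31671E0
import Cfsg.Agent.Lib.Presented.Data.Fi23C31671E1
import Cfsg.Agent.Lib.Presented.Data.Fi23C31671E2
import Cfsg.Agent.Lib.Presented.Data.Fi23C31671E3
import Cfsg.Agent.Lib.Presented.Data.Fi23C31671E4
import Cfsg.Agent.Lib.Presented.Data.Fi23C31671E5
import Cfsg.Agent.Lib.Presented.Data.Fi23C31671E6
import Cfsg.Agent.Lib.Presented.Data.Fi23C31671E7
import Cfsg.Agent.Lib.Presented.Data.Fi23C31671E8
import Cfsg.Agent.Lib.Presented.Data.Fi23C31671E9
import Cfsg.Agent.Lib.Presented.Data.Fi23C31671E10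
import Cfsg.Agent.Lib.Presented.Data.Fi23C31671E11
import Cfsg.Agent.Lib.Presented.Data.Fi23C31671E12
import Cfsg.Agent.Lib.Presented.Data.Fi23C31671E13
import Cfsg.Agent.Lib.Presented.Data.Fi23C31671E14
import Cfsg.Agent.Lib.Presented.Data.Fi23C31671E15
import Cfsg.Agent.Lib.Presented.Data.Fi23C31671E16
import Cfsg.Agent.Lib.Presented.Data.Fi23C31671E17
import Cfsg.Agent.Lib.Presented.Data.Fi23C31671E18
import Cfsg.Agent.Lib.Presented.Data.Fi23C31671E19
import Cfsg.Agent.Lib.Presented.Data.Fi23C31671E20

/-! Generated certificate checks. -/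

set_option autoImplicit false
set_option maxRecDepth 20000

namespace Cfsg.Agent.Presented.Fi23C31671

theorem cert_edgesOK : cert.edgesOK = true :=
  checkBelow_of_block (by decide +kernel)
    (checkBlock_join 18
    (checkBlock_join 17
    (checkBlock_join 16
    (checkBlock_join 15
    (checkBlock_join 14
    (checkBlock_join 13
    (checkBlock_join 12
    edgesOK_0
    edgesOK_1)
    (checkBlock_join 12
    edgesOK_2
    edgesOK_3))
    (checkBlock_join 13
    (checkBlock_join 12
    edgesOK_4
    edgesOK_5)
    (checkBlock_join 12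
    edgesOK_6
    edgesOK_7)))
    (checkBlock_join 14
    (checkBlock_join 13
    (checkBlock_join 12
    edgesOK_8
    edgesOK_9)
    (checkBlock_join 12
    edgesOK_10
    edgesOK_11))
    (checkBlock_join 13
    (checkBlock_join 12
    edgesOK_12
    edgesOK_13)
    (checkBlock_join 12
    edgesOK_14
    edgesOK_15))))
    (checkBlock_join 15
    (checkBlock_join 14
    (checkBlock_join 13
    (checkBlock_join 12
    edgesOK_16
    edgesOK_17)
    (checkBlock_join 12
    edgesOK_18
    edgesOK_19))
    (checkBlock_join 13
    (checkBlock_join 12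
    edgesOK_20
    edgesOK_21)
    (checkBlock_join 12
    edgesOK_22
    edgesOK_23)))
    (checkBlock_join 14
    (checkBlock_join 13
    (checkBlock_join 12
    edgesOK_24
    edgesOK_25)
    (checkBlock_join 12
    edgesOK_26
    edgesOK_27))
    (checkBlock_join 13
    (checkBlock_join 12
    edgesOK_28
    edgesOK_29)
    (checkBlock_join 12
    edgesOK_30
    edgesOK_31)))))
    (checkBlock_join 16
    (checkBlock_join 15
    (checkBlock_join 14
    (checkBlock_join 13
    (checkBlock_join 12
    edgesOK_32
    edgesOK_33)
    (checkBlock_join 12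
    edgesOK_34
    edgesOK_35))
    (checkBlock_join 13
    (checkBlock_join 12
    edgesOK_36
    edgesOK_37)
    (checkBlock_join 12
    edgesOK_38
    edgesOK_39)))
    (checkBlock_join 14
    (checkBlock_join 13
    (checkBlock_join 12
    edgesOK_40
    edgesOK_41)
    (checkBlock_join 12
    edgesOK_42
    edgesOK_43))
    (checkBlock_join 13
    (checkBlock_join 12
    edgesOK_44
    edgesOK_45)
    (checkBlock_join 12
    edgesOK_46
    edgesOK_47))))
    (checkBlock_join 15
    (checkBlock_join 14
    (checkBlock_join 13
    (checkBlock_join 12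
    edgesOK_48
    edgesOK_49)
    (checkBlock_join 12
    edgesOK_50
    edgesOK_51))
    (checkBlock_join 13
    (checkBlock_join 12
    edgesOK_52
    edgesOK_53)
    (checkBlock_join 12
    edgesOK_54
    edgesOK_55)))
    (checkBlock_join 14
    (checkBlock_join 13
    (checkBlock_join 12
    edgesOK_56
    edgesOK_57)
    (checkBlock_join 12
    edgesOK_58
    edgesOK_59))
    (checkBlock_join 13
    (checkBlock_join 12
    edgesOK_60
    edgesOK_61)
    (checkBlock_join 12
    edgesOK_62
    edgesOK_63))))))
    (checkBlock_join 17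
    (checkBlock_join 16
    (checkBlock_join 15
    (checkBlock_join 14
    (checkBlock_join 13
    (checkBlock_join 12
    edgesOK_64
    edgesOK_65)
    (checkBlock_join 12
    edgesOK_66
    edgesOK_67))
    (checkBlock_join 13
    (checkBlock_join 12
    edgesOK_68
    edgesOK_69)
    (checkBlock_join 12
    edgesOK_70
    edgesOK_71)))
    (checkBlock_join 14
    (checkBlock_join 13
    (checkBlock_join 12
    edgesOK_72
    edgesOK_73)
    (checkBlock_join 12
    edgesOK_74
    edgesOK_75))
    (checkBlock_join 13
    (checkBlock_join 12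
    edgesOK_76
    edgesOK_77)
    (checkBlock_ge 13 319488 (Nat.le_of_ble_eq_true (by decide +kernel))))))
    (checkBlock_ge 16 327680 (Nat.le_of_ble_eq_true (by decide +kernel))))
    (checkBlock_ge 17 393216 (Nat.le_of_ble_eq_true (by decide +kernel)))))

theorem cert_wordsOK : cert.wordsOK = true :=
  checkBelow_of_block (by decide +kernel)
    (checkBlock_join 18
    (checkBlock_join 17
    (checkBlock_join 16
    (checkBlock_join 15
    (checkBlock_join 14
    (checkBlock_join 13
    (checkBlock_join 12
    (checkBlock_join 11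
    (checkBlock_join 10
    (checkBlock_join 9
    (checkBlock_join 8
    wordsOK_0
    wordsOK_1)
    (checkBlock_join 8
    wordsOK_2
    wordsOK_3))
    (checkBlock_join 9
    (checkBlock_join 8
    wordsOK_4
    wordsOK_5)
    (checkBlock_join 8
    wordsOK_6
    wordsOK_7)))
    (checkBlock_join 10
    (checkBlock_join 9
    (checkBlock_join 8
    wordsOK_8
    wordsOK_9)
    (checkBlock_join 8
    wordsOK_10
    wordsOK_11))
    (checkBlock_join 9
    (checkBlock_join 8
    wordsOK_12
    wordsOK_13)
    (checkBlock_join 8
    wordsOK_14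
    wordsOK_15))))
    (checkBlock_join 11
    (checkBlock_join 10
    (checkBlock_join 9
    (checkBlock_join 8
    wordsOK_16
    wordsOK_17)
    (checkBlock_join 8
    wordsOK_18
    wordsOK_19))
    (checkBlock_join 9
    (checkBlock_join 8
    wordsOK_20
    wordsOK_21)
    (checkBlock_join 8
    wordsOK_22
    wordsOK_23)))
    (checkBlock_join 10
    (checkBlock_join 9
    (checkBlock_join 8
    wordsOK_24
    wordsOK_25)
    (checkBlock_join 8
    wordsOK_26
    wordsOK_27))
    (checkBlock_join 9
    (checkBlock_join 8
    wordsOK_28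
    wordsOK_29)
    (checkBlock_join 8
    wordsOK_30
    wordsOK_31)))))
    (checkBlock_join 12
    (checkBlock_join 11
    (checkBlock_join 10
    (checkBlock_join 9
    (checkBlock_join 8
    wordsOK_32
    wordsOK_33)
    (checkBlock_join 8
    wordsOK_34
    wordsOK_35))
    (checkBlock_join 9
    (checkBlock_join 8
    wordsOK_36
    wordsOK_37)
    (checkBlock_join 8
    wordsOK_38
    wordsOK_39)))
    (checkBlock_join 10
    (checkBlock_join 9
    (checkBlock_join 8
    wordsOK_40
    wordsOK_41)
    (checkBlock_join 8
    wordsOK_42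
    wordsOK_43))
    (checkBlock_join 9
    (checkBlock_join 8
    wordsOK_44
    wordsOK_45)
    (checkBlock_join 8
    wordsOK_46
    wordsOK_47))))
    (checkBlock_join 11
    (checkBlock_join 10
    (checkBlock_join 9
    (checkBlock_join 8
    wordsOK_48
    wordsOK_49)
    (checkBlock_join 8
    wordsOK_50
    wordsOK_51))
    (checkBlock_join 9
    (checkBlock_join 8
    wordsOK_52
    wordsOK_53)
    (checkBlock_join 8
    wordsOK_54
    wordsOK_55)))
    (checkBlock_join 10
    (checkBlock_join 9
    (checkBlock_join 8
    wordsOK_56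
    wordsOK_57)
    (checkBlock_join 8
    wordsOK_58
    wordsOK_59))
    (checkBlock_join 9
    (checkBlock_join 8
    wordsOK_60
    wordsOK_61)
    (checkBlock_join 8
    wordsOK_62
    wordsOK_63))))))
    (checkBlock_join 13
    (checkBlock_join 12
    (checkBlock_join 11
    (checkBlock_join 10
    (checkBlock_join 9
    (checkBlock_join 8
    wordsOK_64
    wordsOK_65)
    (checkBlock_join 8
    wordsOK_66
    wordsOK_67))
    (checkBlock_join 9
    (checkBlock_join 8
    wordsOK_68
    wordsOK_69)
    (checkBlock_join 8
    wordsOK_70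
    wordsOK_71)))
    (checkBlock_join 10
    (checkBlock_join 9
    (checkBlock_join 8
    wordsOK_72
    wordsOK_73)
    (checkBlock_join 8
    wordsOK_74
    wordsOK_75))
    (checkBlock_join 9
    (checkBlock_join 8
    wordsOK_76
    wordsOK_77)
    (checkBlock_join 8
    wordsOK_78
    wordsOK_79))))
    (checkBlock_join 11
    (checkBlock_join 10
    (checkBlock_join 9
    (checkBlock_join 8
    wordsOK_80
    wordsOK_81)
    (checkBlock_join 8
    wordsOK_82
    wordsOK_83))
    (checkBlock_join 9
    (checkBlock_join 8
    wordsOK_84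
    wordsOK_85)
    (checkBlock_join 8
    wordsOK_86
    wordsOK_87)))
    (checkBlock_join 10
    (checkBlock_join 9
    (checkBlock_join 8
    wordsOK_88
    wordsOK_89)
    (checkBlock_join 8
    wordsOK_90
    wordsOK_91))
    (checkBlock_join 9
    (checkBlock_join 8
    wordsOK_92
    wordsOK_93)
    (checkBlock_join 8
    wordsOK_94
    wordsOK_95)))))
    (checkBlock_join 12
    (checkBlock_join 11
    (checkBlock_join 10
    (checkBlock_join 9
    (checkBlock_join 8
    wordsOK_96
    wordsOK_97)
    (checkBlock_join 8
    wordsOK_98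
    wordsOK_99))
    (checkBlock_join 9
    (checkBlock_join 8
    wordsOK_100
    wordsOK_101)
    (checkBlock_join 8
    wordsOK_102
    wordsOK_103)))
    (checkBlock_join 10
    (checkBlock_join 9
    (checkBlock_join 8
    wordsOK_104
    wordsOK_105)
    (checkBlock_join 8
    wordsOK_106
    wordsOK_107))
    (checkBlock_join 9
    (checkBlock_join 8
    wordsOK_108
    wordsOK_109)
    (checkBlock_join 8
    wordsOK_110
    wordsOK_111))))
    (checkBlock_join 11
    (checkBlock_join 10
    (checkBlock_join 9
    (checkBlock_join 8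
    wordsOK_112
    wordsOK_113)
    (checkBlock_join 8
    wordsOK_114
    wordsOK_115))
    (checkBlock_join 9
    (checkBlock_join 8
    wordsOK_116
    wordsOK_117)
    (checkBlock_join 8
    wordsOK_118
    wordsOK_119)))
    (checkBlock_join 10
    (checkBlock_join 9
    (checkBlock_join 8
    wordsOK_120
    wordsOK_121)
    (checkBlock_join 8
    wordsOK_122
    wordsOK_123))
    (checkBlock_ge 10 31744 (Nat.le_of_ble_eq_true (by decide +kernel))))))))
    (checkBlock_ge 15 32768 (Nat.le_of_ble_eq_true (by decide +kernel))))
    (checkBlock_ge 16 65536 (Nat.le_of_ble_eq_true (by decide +kernel))))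
    (checkBlock_ge 17 131072 (Nat.le_of_ble_eq_true (by decide +kernel))))
    (checkBlock_ge 18 262144 (Nat.le_of_ble_eq_true (by decide +kernel))))

end Cfsg.Agent.Presented.Fi23C31671
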