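import Cfsg.Agent.Lib.Presented.Data.Fi23C31671

/-! Generated certificate checks: deductions. -/

set_option autoImplicit false
set_option maxRecDepth 20000

namespace Cfsg.Agent.Presented.Fi23C31671

theorem deriv_factsOK : deriv.factsOK = true := by decide +kernel

theorem deriv_loopsOK : deriv.loopsOK = true := by decide +kernel

end Cfsg.Agent.Presented.Fi23C31671
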