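import Cfsg.Agent.Lib.Presented.Data.Fi23C31671

/-! Generated certificate checks. -/

set_option autoImplicit false
set_option maxRecDepth 20000

namespace Cfsg.Agent.Presented.Fi23C31671

theorem wordsOK_22 : checkBlock cert.checkWords cert.N 8 5632 = true := by decide +kernel

theorem wordsOK_23 : checkBlock cert.checkWords cert.N 8 5888 = true := by decide +kernel

theorem wordsOK_24 : checkBlock cert.checkWords cert.N 8 6144 = true := by decide +kernel

theorem wordsOK_25 : checkBlock cert.checkWords cert.N 8 6400 = true := by decide +kernel

theorem wordsOK_26 : checkBlock cert.checkWords cert.N 8 6656 = true := by decide +kernel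

theorem wordsOK_27 : checkBlock cert.checkWords cert.N 8 6912 = true := by decide +kernel

theorem wordsOK_28 : checkBlock cert.checkWords cert.N 8 7168 = true := by decide +kernel

theorem wordsOK_29 : checkBlock cert.checkWords cert.N 8 7424 = true := by decide +kernel

theorem wordsOK_30 : checkBlock cert.checkWords cert.N 8 7680 = true := by decide +kernel

theorem wordsOK_31 : checkBlock cert.checkWords cert.N 8 7936 = true := by decide +kernel

end Cfsg.Agent.Presented.Fi23C31671
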