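import Cfsg.Agent.Lib.Presented.Count
import Cfsg.Agent.Lib.Presented.Data.Fi23C31671

/-! Generated certificate checks: nodes. -/

set_option autoImplicit false
set_option maxRecDepth 20000

namespace Cfsg.Agent.Presented.Fi23C31671

theorem cert_nodesOK : cert.nodesOK = true := by
  rw [CosetCert.nodesOK, checkBelow_fast]; decide +kernel

theorem cert_subOK : cert.subOK = true := by decide +kernel

end Cfsg.Agent.Presented.Fi23C31671
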