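import Cfsg.Agent.Lib.Presented.Count
import Cfsg.Agent.Lib.Presented.Data.Fi23C31671

/-! Generated certificate checks: second suborbit. -/

set_option autoImplicit false
set_option maxRecDepth 20000
set_option maxHeartbeats 4000000

namespace Cfsg.Agent.Presented.Fi23C31671

theorem orbit1_ok : cert.orbitOK [[0],     [1],     [2],     [3],     [4],     [5],     [6],     [8],     [9]] orbit1 52 = true := by
  rw [CosetCert.orbitOK, Bool.and_eq_true]
  refine ⟨by decide +kernel, checkBelow_of_block (by decide +kernel) ?_⟩
  exact
    (checkBlock_join 18
      (checkBlock_join 17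
      (checkBlock_join 16
      (checkBlock_join 15
      (checkBlock_join 14
      (checkBlock_join 13
      ((checkRec_eq _ _ 13 0).symm.trans (by decide +kernel))
      ((checkRec_eq _ _ 13 8192).symm.trans (by decide +kernel)))
      (checkBlock_join 13
      ((checkRec_eq _ _ 13 16384).symm.trans (by decide +kernel))
      ((checkRec_eq _ _ 13 24576).symm.trans (by decide +kernel))))
      (checkBlock_ge 15 32768 (Nat.le_of_ble_eq_true (by decide +kernel))))
      (checkBlock_ge 16 65536 (Nat.le_of_ble_eq_true (by decide +kernel))))
      (checkBlock_ge 17 131072 (Nat.le_of_ble_eq_true (by decide +kernel))))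
      (checkBlock_ge 18 262144 (Nat.le_of_ble_eq_true (by decide +kernel))))

theorem orbit1_count : cert.orbitCount orbit1 = 3510 := by
  rw [CosetCert.orbitCount, countBelow_fast]; decide +kernel

end Cfsg.Agent.Presented.Fi23C31671
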