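import Cfsg.Agent.Lib.Presented.Data.Fi23Chain

/-! Generated stabiliser chain checks. -/

set_option autoImplicit false
set_option maxRecDepth 20000

namespace Cfsg.Agent.Presented.Fi23Chain

theorem lev0_ok : reachChainOK Fi23C31671.cert [lev0] [] = true := by decide +kernel

theorem lev1_ok : reachChainOK Fi23C31671.cert [lev1] [0] = true := by decide +kernel

theorem lev2_ok : reachChainOK Fi23C31671.cert [lev2] [8005, 0] = true := by decide +kernel

end Cfsg.Agent.Presented.Fi23Chain
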