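import Cfsg.Agent.Lib.Presented.Data.Fi23Chain

/-! Generated stabiliser chain checks. -/

set_option autoImplicit false
set_option maxRecDepth 20000

namespace Cfsg.Agent.Presented.Fi23Chain

theorem lev3_ok : reachChainOK Fi23C31671.cert [lev3] [2524, 8005, 0] = true := by decide +kernel

theorem lev4_ok : reachChainOK Fi23C31671.cert [lev4] [52, 2524, 8005, 0] = true := by decide +kernel

theorem lev5_ok : reachChainOK Fi23C31671.cert [lev5] [899, 52, 2524, 8005, 0] = true := by decide +kernel

theorem lev6_ok : reachChainOK Fi23C31671.cert [lev6] [174, 899, 52, 2524, 8005, 0] = true := by decide +kernel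

end Cfsg.Agent.Presented.Fi23Chain
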