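import Cfsg.Agent.Lib.Presented.Data.Fi23Chain

/-! Generated stabiliser chain checks. -/

set_option autoImplicit false
set_option maxRecDepth 20000

namespace Cfsg.Agent.Presented.Fi23Chain

theorem lev7_ok : reachChainOK Fi23C31671.cert [lev7] [1, 174, 899, 52, 2524, 8005, 0] = true := by decide +kernel

theorem lev8_ok : reachChainOK Fi23C31671.cert [lev8] [3, 1, 174, 899, 52, 2524, 8005, 0] = true := by decide +kernel

theorem lev9_ok : reachChainOK Fi23C31671.cert [lev9] [10, 3, 1, 174, 899, 52, 2524, 8005, 0] = true := by decide +kernel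

theorem lev10_ok : reachChainOK Fi23C31671.cert [lev10] [5, 10, 3, 1, 174, 899, 52, 2524, 8005, 0] = true := by decide +kernel

end Cfsg.Agent.Presented.Fi23Chain
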