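/-!
# Sparse matrices of size seventy-eight over the field with thirteen elements for the generators of Fi22

The diagonal matrices are base transpositions in the monomial representation of `2^10:M22`; the others are
transpositions commuting with six base ones. For each row the nonzero entries are listed as (column, value).
-/

set_option autoImplicit false
set_option maxRecDepth 20000

namespace Cfsg.Agent.Presented.FiMatrix78

/-- The matrix of the generator a. -/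
def mat_a : List (List (Nat × Nat)) :=
  [[(0, 1)],
   [(1, 1)],
   [(2, 1)],
   [(3, 1)],
   [(4, 1)],
   [(5, 1)],
   [(6, 12)],
   [(7, 12)],
   [(8, 12)],
   [(9, 12)],
   [(10, 12)],
   [(11, 12)],
   [(12, 12)],
   [(13, 12)],
   [(14, 12)],
   [(15, 12)],
   [(16, 12)],
   [(17, 12)],
   [(18, 12)],
   [(19, 12)],
   [(20, 12)],
   [(21, 12)],
   [(22, 1)],
   [(23, 1)],
   [(24, 1)],
   [(25, 1)],
   [(26, 1)],
   [(27, 1)],
   [(28, 1)],
   [(29, 1)],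
   [(30, 1)],
   [(31, 1)],
   [(32, 1)],
   [(33, 1)],
   [(34, 1)],
   [(35, 1)],
   [(36, 1)],
   [(37, 1)],
   [(38, 12)],
   [(39, 12)],
   [(40, 12)],
   [(41, 12)],
   [(42, 12)],
   [(43, 12)],
   [(44, 12)],
   [(45, 12)],
   [(46, 12)],
   [(47, 12)],
   [(48, 12)],
   [(49, 12)],
   [(50, 12)],
   [(51, 12)],
   [(52, 12)],
   [(53, 12)],
   [(54, 12)],
   [(55, 12)],
   [(56, 12)],
   [(57, 12)],
   [(58, 12)],
   [(59, 12)],
   [(60, 12)],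
   [(61, 12)],
   [(62, 12)],
   [(63, 12)],
   [(64, 12)],
   [(65, 12)],
   [(66, 12)],
   [(67, 12)],
   [(68, 12)],
   [(69, 12)],
   [(70, 12)],
   [(71, 12)],
   [(72, 12)],
   [(73, 12)],
   [(74, 12)],
   [(75, 12)],
   [(76, 12)],
   [(77, 12)]]

/-- The matrix of the generator b. -/
def mat_b : List (List (Nat × Nat)) :=
  [[(0, 6), (69, 1)],
   [(1, 3), (5, 3), (8, 10), (10, 10), (12, 3), (20, 3), (22, 10), (27, 3), (31, 10), (34, 3), (40, 10), (42, 3), (46, 10), (50, 10), (62, 10), (71, 3)],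
   [(2, 6), (48, 6), (63, 6), (70, 6)],
   [(3, 6), (41, 7), (52, 6), (68, 7)],
   [(4, 6), (47, 6), (55, 6), (64, 6)],
   [(1, 3), (5, 3), (8, 3), (10, 3), (12, 10), (20, 10), (22, 3), (27, 10), (31, 3), (34, 10), (40, 10), (42, 3), (46, 10), (50, 10), (62, 10), (71, 3)],
   [(6, 6), (35, 6), (61, 7), (74, 7)],
   [(7, 6), (33, 6), (53, 7), (59, 7)],
   [(1, 10), (5, 3), (8, 3), (10, 10), (12, 3), (20, 3), (22, 10), (27, 10), (31, 3), (34, 10), (40, 10), (42, 3), (46, 10), (50, 3), (62, 3), (71, 10)],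
   [(9, 6), (29, 7), (56, 7), (77, 6)],
   [(1, 10), (5, 3), (8, 10), (10, 3), (12, 3), (20, 3), (22, 3), (27, 10), (31, 10), (34, 10), (40, 3), (42, 3), (46, 3), (50, 10), (62, 10), (71, 10)],
   [(11, 6), (23, 6), (60, 6), (66, 6)],
   [(1, 3), (5, 10), (8, 3), (10, 3), (12, 3), (20, 10), (22, 10), (27, 3), (31, 10), (34, 10), (40, 10), (42, 3), (46, 3), (50, 3), (62, 10), (71, 10)],
   [(13, 6), (32, 6), (39, 7), (67, 7)],
   [(14, 6), (24, 7), (57, 6), (76, 7)],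
   [(15, 6), (28, 6), (45, 7), (75, 7)],
   [(16, 6), (26, 6), (44, 6), (65, 6)],
   [(17, 6), (37, 7), (43, 7), (58, 6)],
   [(18, 6), (36, 7), (38, 7), (73, 6)],
   [(19, 6), (25, 6), (51, 6), (72, 6)],
   [(1, 3), (5, 10), (8, 3), (10, 3), (12, 10), (20, 3), (22, 10), (27, 10), (31, 10), (34, 3), (40, 3), (42, 3), (46, 10), (50, 10), (62, 3), (71, 10)],
   [(21, 6), (30, 6), (49, 6), (54, 6)],
   [(1, 10), (5, 3), (8, 10), (10, 3), (12, 10), (20, 10), (22, 3), (27, 3), (31, 10), (34, 3), (40, 10), (42, 3), (46, 10), (50, 3), (62, 3), (71, 10)],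
   [(11, 6), (23, 6), (60, 7), (66, 7)],
   [(14, 7), (24, 6), (57, 6), (76, 7)],
   [(19, 6), (25, 6), (51, 7), (72, 7)],
   [(16, 6), (26, 6), (44, 7), (65, 7)],
   [(1, 3), (5, 10), (8, 10), (10, 10), (12, 3), (20, 10), (22, 3), (27, 3), (31, 3), (34, 10), (40, 3), (42, 3), (46, 10), (50, 10), (62, 3), (71, 10)],
   [(15, 6), (28, 6), (45, 6), (75, 6)],
   [(9, 7), (29, 6), (56, 7), (77, 6)],
   [(21, 6), (30, 6), (49, 7), (54, 7)],
   [(1, 10), (5, 3), (8, 3), (10, 10), (12, 10), (20, 10), (22, 10), (27, 3), (31, 3), (34, 3), (40, 3), (42, 3), (46, 3), (50, 10), (62, 10), (71, 10)],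
   [(13, 6), (32, 6), (39, 6), (67, 6)],
   [(7, 6), (33, 6), (53, 6), (59, 6)],
   [(1, 3), (5, 10), (8, 10), (10, 10), (12, 10), (20, 3), (22, 3), (27, 10), (31, 3), (34, 3), (40, 10), (42, 3), (46, 3), (50, 3), (62, 10), (71, 10)],
   [(6, 6), (35, 6), (61, 6), (74, 6)],
   [(18, 7), (36, 6), (38, 7), (73, 6)],
   [(17, 7), (37, 6), (43, 7), (58, 6)],
   [(18, 7), (36, 7), (38, 6), (73, 6)],
   [(13, 7), (32, 6), (39, 6), (67, 7)],
   [(1, 10), (5, 10), (8, 10), (10, 3), (12, 10), (20, 3), (22, 10), (27, 3), (31, 3), (34, 10), (40, 3), (42, 3), (46, 10), (50, 3), (62, 10), (71, 3)],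
   [(3, 7), (41, 6), (52, 6), (68, 7)],
   [(1, 3), (5, 3), (8, 3), (10, 3), (12, 3), (20, 3), (22, 3), (27, 3), (31, 3), (34, 3), (40, 3), (42, 3), (46, 3), (50, 3), (62, 3), (71, 3)],
   [(17, 7), (37, 7), (43, 6), (58, 6)],
   [(16, 6), (26, 7), (44, 6), (65, 7)],
   [(15, 7), (28, 6), (45, 6), (75, 7)],
   [(1, 10), (5, 10), (8, 10), (10, 3), (12, 3), (20, 10), (22, 10), (27, 10), (31, 3), (34, 3), (40, 10), (42, 3), (46, 3), (50, 10), (62, 3), (71, 3)],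
   [(4, 6), (47, 6), (55, 7), (64, 7)],
   [(2, 6), (48, 6), (63, 7), (70, 7)],
   [(21, 6), (30, 7), (49, 6), (54, 7)],
   [(1, 10), (5, 10), (8, 3), (10, 10), (12, 3), (20, 10), (22, 3), (27, 10), (31, 10), (34, 3), (40, 3), (42, 3), (46, 10), (50, 3), (62, 10), (71, 3)],
   [(19, 6), (25, 7), (51, 6), (72, 7)],
   [(3, 6), (41, 6), (52, 6), (68, 6)],
   [(7, 7), (33, 6), (53, 6), (59, 7)],
   [(21, 6), (30, 7), (49, 7), (54, 6)],
   [(4, 6), (47, 7), (55, 6), (64, 7)],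
   [(9, 7), (29, 7), (56, 6), (77, 6)],
   [(14, 6), (24, 6), (57, 6), (76, 6)],
   [(17, 6), (37, 6), (43, 6), (58, 6)],
   [(7, 7), (33, 6), (53, 7), (59, 6)],
   [(11, 6), (23, 7), (60, 6), (66, 7)],
   [(6, 7), (35, 6), (61, 6), (74, 7)],
   [(1, 10), (5, 10), (8, 3), (10, 10), (12, 10), (20, 3), (22, 3), (27, 3), (31, 10), (34, 10), (40, 10), (42, 3), (46, 3), (50, 10), (62, 3), (71, 3)],
   [(2, 6), (48, 7), (63, 6), (70, 7)],
   [(4, 6), (47, 7), (55, 7), (64, 6)],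
   [(16, 6), (26, 7), (44, 7), (65, 6)],
   [(11, 6), (23, 7), (60, 7), (66, 6)],
   [(13, 7), (32, 6), (39, 7), (67, 6)],
   [(3, 7), (41, 7), (52, 6), (68, 6)],
   [(0, 4), (69, 7)],
   [(2, 6), (48, 7), (63, 7), (70, 6)],
   [(1, 3), (5, 3), (8, 10), (10, 10), (12, 10), (20, 10), (22, 10), (27, 10), (31, 10), (34, 10), (40, 3), (42, 3), (46, 3), (50, 3), (62, 3), (71, 3)],
   [(19, 6), (25, 7), (51, 7), (72, 6)],
   [(18, 6), (36, 6), (38, 6), (73, 6)],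
   [(6, 7), (35, 6), (61, 7), (74, 6)],
   [(15, 7), (28, 6), (45, 7), (75, 6)],
   [(14, 7), (24, 7), (57, 6), (76, 6)],
   [(9, 6), (29, 6), (56, 6), (77, 6)]]

/-- The matrix of the generator c. -/
def mat_c : List (List (Nat × Nat)) :=
  [[(0, 1)],
   [(1, 1)],
   [(2, 12)],
   [(3, 12)],
   [(4, 12)],
   [(5, 12)],
   [(6, 1)],
   [(7, 1)],
   [(8, 1)],
   [(9, 1)],
   [(10, 12)],
   [(11, 12)],
   [(12, 12)],
   [(13, 12)],
   [(14, 12)],
   [(15, 12)],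
   [(16, 12)],
   [(17, 12)],
   [(18, 12)],
   [(19, 12)],
   [(20, 12)],
   [(21, 12)],
   [(22, 1)],
   [(23, 1)],
   [(24, 1)],
   [(25, 1)],
   [(26, 12)],
   [(27, 12)],
   [(28, 12)],
   [(29, 12)],
   [(30, 12)],
   [(31, 12)],
   [(32, 12)],
   [(33, 12)],
   [(34, 12)],
   [(35, 12)],
   [(36, 12)],
   [(37, 12)],
   [(38, 1)],
   [(39, 1)],
   [(40, 1)],
   [(41, 1)],
   [(42, 1)],
   [(43, 1)],
   [(44, 1)],
   [(45, 1)],
   [(46, 1)],
   [(47, 1)],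
   [(48, 1)],
   [(49, 1)],
   [(50, 12)],
   [(51, 12)],
   [(52, 12)],
   [(53, 12)],
   [(54, 12)],
   [(55, 12)],
   [(56, 12)],
   [(57, 12)],
   [(58, 12)],
   [(59, 12)],
   [(60, 12)],
   [(61, 12)],
   [(62, 12)],
   [(63, 12)],
   [(64, 12)],
   [(65, 12)],
   [(66, 12)],
   [(67, 12)],
   [(68, 12)],
   [(69, 12)],
   [(70, 12)],
   [(71, 12)],
   [(72, 12)],
   [(73, 12)],
   [(74, 12)],
   [(75, 12)],
   [(76, 12)],
   [(77, 12)]]

/-- The matrix of the generator d. -/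
def mat_d : List (List (Nat × Nat)) :=
  [[(0, 6), (26, 1)],
   [(1, 6), (29, 6), (30, 6), (31, 6)],
   [(2, 6), (22, 6), (27, 6), (28, 6)],
   [(3, 6), (23, 7), (32, 6), (33, 7)],
   [(4, 6), (24, 6), (35, 7), (37, 7)],
   [(5, 6), (25, 7), (34, 6), (36, 7)],
   [(6, 6), (55, 7), (57, 6), (58, 7)],
   [(7, 6), (66, 6), (67, 6), (68, 6)],
   [(8, 3), (9, 3), (18, 3), (19, 10), (20, 3), (21, 10), (45, 3), (46, 10), (48, 10), (49, 3), (70, 10), (71, 10), (72, 3), (73, 10), (75, 3), (77, 10)],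
   [(8, 3), (9, 3), (18, 10), (19, 3), (20, 10), (21, 3), (45, 10), (46, 3), (48, 3), (49, 10), (70, 10), (71, 10), (72, 3), (73, 10), (75, 3), (77, 10)],
   [(10, 6), (38, 6), (50, 6), (51, 6)],
   [(11, 6), (39, 6), (52, 7), (53, 7)],
   [(12, 6), (40, 6), (54, 7), (56, 7)],
   [(13, 6), (41, 7), (59, 6), (60, 7)],
   [(14, 6), (43, 6), (61, 7), (64, 7)],
   [(15, 6), (42, 7), (62, 7), (63, 6)],
   [(16, 6), (44, 6), (65, 6), (69, 6)],
   [(17, 6), (47, 6), (74, 6), (76, 6)],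
   [(8, 3), (9, 10), (18, 3), (19, 3), (20, 10), (21, 3), (45, 10), (46, 10), (48, 10), (49, 3), (70, 3), (71, 3), (72, 10), (73, 10), (75, 3), (77, 10)],
   [(8, 10), (9, 3), (18, 3), (19, 3), (20, 3), (21, 10), (45, 10), (46, 3), (48, 10), (49, 10), (70, 3), (71, 10), (72, 10), (73, 10), (75, 3), (77, 3)],
   [(8, 3), (9, 10), (18, 10), (19, 3), (20, 3), (21, 3), (45, 3), (46, 10), (48, 10), (49, 10), (70, 10), (71, 10), (72, 10), (73, 3), (75, 3), (77, 3)],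
   [(8, 10), (9, 3), (18, 3), (19, 10), (20, 3), (21, 3), (45, 10), (46, 10), (48, 3), (49, 10), (70, 10), (71, 3), (72, 10), (73, 3), (75, 3), (77, 10)],
   [(2, 6), (22, 6), (27, 7), (28, 7)],
   [(3, 7), (23, 6), (32, 6), (33, 7)],
   [(4, 6), (24, 6), (35, 6), (37, 6)],
   [(5, 7), (25, 6), (34, 6), (36, 7)],
   [(0, 4), (26, 7)],
   [(2, 6), (22, 7), (27, 6), (28, 7)],
   [(2, 6), (22, 7), (27, 7), (28, 6)],
   [(1, 6), (29, 6), (30, 7), (31, 7)],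
   [(1, 6), (29, 7), (30, 6), (31, 7)],
   [(1, 6), (29, 7), (30, 7), (31, 6)],
   [(3, 6), (23, 6), (32, 6), (33, 6)],
   [(3, 7), (23, 7), (32, 6), (33, 6)],
   [(5, 6), (25, 6), (34, 6), (36, 6)],
   [(4, 7), (24, 6), (35, 6), (37, 7)],
   [(5, 7), (25, 7), (34, 6), (36, 6)],
   [(4, 7), (24, 6), (35, 7), (37, 6)],
   [(10, 6), (38, 6), (50, 7), (51, 7)],
   [(11, 6), (39, 6), (52, 6), (53, 6)],
   [(12, 6), (40, 6), (54, 6), (56, 6)],
   [(13, 7), (41, 6), (59, 6), (60, 7)],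
   [(15, 7), (42, 6), (62, 7), (63, 6)],
   [(14, 6), (43, 6), (61, 6), (64, 6)],
   [(16, 6), (44, 6), (65, 7), (69, 7)],
   [(8, 3), (9, 10), (18, 10), (19, 10), (20, 3), (21, 10), (45, 3), (46, 3), (48, 3), (49, 10), (70, 3), (71, 3), (72, 10), (73, 10), (75, 3), (77, 10)],
   [(8, 10), (9, 3), (18, 10), (19, 3), (20, 10), (21, 10), (45, 3), (46, 3), (48, 10), (49, 3), (70, 10), (71, 3), (72, 10), (73, 3), (75, 3), (77, 10)],
   [(17, 6), (47, 6), (74, 7), (76, 7)],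
   [(8, 10), (9, 3), (18, 10), (19, 10), (20, 10), (21, 3), (45, 3), (46, 10), (48, 3), (49, 3), (70, 3), (71, 10), (72, 10), (73, 10), (75, 3), (77, 3)],
   [(8, 3), (9, 10), (18, 3), (19, 10), (20, 10), (21, 10), (45, 10), (46, 3), (48, 3), (49, 3), (70, 10), (71, 10), (72, 10), (73, 3), (75, 3), (77, 3)],
   [(10, 6), (38, 7), (50, 6), (51, 7)],
   [(10, 6), (38, 7), (50, 7), (51, 6)],
   [(11, 7), (39, 6), (52, 6), (53, 7)],
   [(11, 7), (39, 6), (52, 7), (53, 6)],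
   [(12, 7), (40, 6), (54, 6), (56, 7)],
   [(6, 7), (55, 6), (57, 6), (58, 7)],
   [(12, 7), (40, 6), (54, 7), (56, 6)],
   [(6, 6), (55, 6), (57, 6), (58, 6)],
   [(6, 7), (55, 7), (57, 6), (58, 6)],
   [(13, 6), (41, 6), (59, 6), (60, 6)],
   [(13, 7), (41, 7), (59, 6), (60, 6)],
   [(14, 7), (43, 6), (61, 6), (64, 7)],
   [(15, 7), (42, 7), (62, 6), (63, 6)],
   [(15, 6), (42, 6), (62, 6), (63, 6)],
   [(14, 7), (43, 6), (61, 7), (64, 6)],
   [(16, 6), (44, 7), (65, 6), (69, 7)],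
   [(7, 6), (66, 6), (67, 7), (68, 7)],
   [(7, 6), (66, 7), (67, 6), (68, 7)],
   [(7, 6), (66, 7), (67, 7), (68, 6)],
   [(16, 6), (44, 7), (65, 7), (69, 6)],
   [(8, 10), (9, 10), (18, 3), (19, 3), (20, 10), (21, 10), (45, 3), (46, 10), (48, 3), (49, 10), (70, 3), (71, 10), (72, 3), (73, 3), (75, 3), (77, 10)],
   [(8, 10), (9, 10), (18, 3), (19, 10), (20, 10), (21, 3), (45, 3), (46, 3), (48, 10), (49, 10), (70, 10), (71, 3), (72, 3), (73, 10), (75, 3), (77, 3)],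
   [(8, 3), (9, 3), (18, 10), (19, 10), (20, 10), (21, 10), (45, 10), (46, 10), (48, 10), (49, 10), (70, 3), (71, 3), (72, 3), (73, 3), (75, 3), (77, 3)],
   [(8, 10), (9, 10), (18, 10), (19, 10), (20, 3), (21, 3), (45, 10), (46, 3), (48, 10), (49, 3), (70, 3), (71, 10), (72, 3), (73, 3), (75, 3), (77, 10)],
   [(17, 6), (47, 7), (74, 6), (76, 7)],
   [(8, 3), (9, 3), (18, 3), (19, 3), (20, 3), (21, 3), (45, 3), (46, 3), (48, 3), (49, 3), (70, 3), (71, 3), (72, 3), (73, 3), (75, 3), (77, 3)],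
   [(17, 6), (47, 7), (74, 7), (76, 6)],
   [(8, 10), (9, 10), (18, 10), (19, 3), (20, 3), (21, 10), (45, 10), (46, 10), (48, 3), (49, 3), (70, 10), (71, 3), (72, 3), (73, 10), (75, 3), (77, 3)]]

/-- The matrix of the generator e. -/
def mat_e : List (List (Nat × Nat)) :=
  [[(0, 1)],
   [(1, 12)],
   [(2, 12)],
   [(3, 12)],
   [(4, 1)],
   [(5, 12)],
   [(6, 12)],
   [(7, 12)],
   [(8, 12)],
   [(9, 1)],
   [(10, 12)],
   [(11, 1)],
   [(12, 12)],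
   [(13, 12)],
   [(14, 12)],
   [(15, 1)],
   [(16, 12)],
   [(17, 12)],
   [(18, 1)],
   [(19, 12)],
   [(20, 12)],
   [(21, 12)],
   [(22, 12)],
   [(23, 1)],
   [(24, 12)],
   [(25, 12)],
   [(26, 12)],
   [(27, 12)],
   [(28, 1)],
   [(29, 1)],
   [(30, 12)],
   [(31, 12)],
   [(32, 12)],
   [(33, 12)],
   [(34, 12)],
   [(35, 12)],
   [(36, 1)],
   [(37, 12)],
   [(38, 1)],
   [(39, 12)],
   [(40, 12)],
   [(41, 12)],
   [(42, 12)],
   [(43, 12)],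
   [(44, 12)],
   [(45, 1)],
   [(46, 12)],
   [(47, 1)],
   [(48, 12)],
   [(49, 12)],
   [(50, 12)],
   [(51, 12)],
   [(52, 12)],
   [(53, 12)],
   [(54, 12)],
   [(55, 1)],
   [(56, 1)],
   [(57, 12)],
   [(58, 12)],
   [(59, 12)],
   [(60, 1)],
   [(61, 12)],
   [(62, 12)],
   [(63, 12)],
   [(64, 1)],
   [(65, 12)],
   [(66, 1)],
   [(67, 12)],
   [(68, 12)],
   [(69, 1)],
   [(70, 12)],
   [(71, 12)],
   [(72, 12)],
   [(73, 1)],
   [(74, 12)],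
   [(75, 1)],
   [(76, 12)],
   [(77, 1)]]

/-- The matrix of the generator f. -/
def mat_f : List (List (Nat × Nat)) :=
  [[(0, 6), (25, 12)],
   [(1, 6), (22, 6), (23, 7), (24, 6)],
   [(2, 6), (29, 6), (32, 6), (37, 7)],
   [(3, 6), (28, 6), (30, 6), (35, 7)],
   [(4, 6), (27, 6), (31, 6), (33, 7)],
   [(5, 6), (26, 6), (34, 6), (36, 7)],
   [(6, 6), (41, 6), (45, 6), (49, 7)],
   [(7, 6), (40, 6), (42, 6), (47, 7)],
   [(8, 6), (38, 6), (44, 7), (46, 6)],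
   [(9, 6), (39, 6), (43, 6), (48, 7)],
   [(10, 3), (11, 3), (14, 3), (16, 3), (18, 3), (20, 3), (50, 10), (53, 10), (55, 10), (57, 10), (59, 10), (60, 10), (64, 10), (65, 10), (71, 10), (73, 10)],
   [(10, 3), (11, 3), (14, 10), (16, 10), (18, 10), (20, 10), (50, 3), (53, 3), (55, 3), (57, 3), (59, 10), (60, 10), (64, 10), (65, 10), (71, 10), (73, 10)],
   [(12, 6), (62, 6), (66, 6), (76, 7)],
   [(13, 6), (58, 6), (70, 6), (77, 7)],
   [(10, 3), (11, 10), (14, 3), (16, 10), (18, 10), (20, 10), (50, 3), (53, 10), (55, 10), (57, 10), (59, 3), (60, 3), (64, 3), (65, 10), (71, 10), (73, 10)],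
   [(15, 6), (54, 6), (68, 7), (74, 6)],
   [(10, 3), (11, 10), (14, 10), (16, 3), (18, 10), (20, 10), (50, 10), (53, 3), (55, 10), (57, 10), (59, 10), (60, 10), (64, 3), (65, 10), (71, 3), (73, 3)],
   [(17, 6), (56, 6), (63, 6), (67, 7)],
   [(10, 3), (11, 10), (14, 10), (16, 10), (18, 3), (20, 10), (50, 10), (53, 10), (55, 3), (57, 10), (59, 3), (60, 10), (64, 10), (65, 3), (71, 3), (73, 10)],
   [(19, 6), (51, 6), (69, 7), (72, 6)],
   [(10, 3), (11, 10), (14, 10), (16, 10), (18, 10), (20, 3), (50, 10), (53, 10), (55, 10), (57, 3), (59, 10), (60, 3), (64, 10), (65, 3), (71, 10), (73, 3)],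
   [(21, 6), (52, 6), (61, 6), (75, 7)],
   [(1, 6), (22, 6), (23, 6), (24, 7)],
   [(1, 7), (22, 6), (23, 6), (24, 6)],
   [(1, 6), (22, 7), (23, 6), (24, 6)],
   [(0, 9), (25, 7)],
   [(5, 6), (26, 6), (34, 7), (36, 6)],
   [(4, 6), (27, 6), (31, 7), (33, 6)],
   [(3, 6), (28, 6), (30, 7), (35, 6)],
   [(2, 6), (29, 6), (32, 7), (37, 6)],
   [(3, 6), (28, 7), (30, 6), (35, 6)],
   [(4, 6), (27, 7), (31, 6), (33, 6)],
   [(2, 6), (29, 7), (32, 6), (37, 6)],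
   [(4, 7), (27, 6), (31, 6), (33, 6)],
   [(5, 6), (26, 7), (34, 6), (36, 6)],
   [(3, 7), (28, 6), (30, 6), (35, 6)],
   [(5, 7), (26, 6), (34, 6), (36, 6)],
   [(2, 7), (29, 6), (32, 6), (37, 6)],
   [(8, 6), (38, 6), (44, 6), (46, 7)],
   [(9, 6), (39, 6), (43, 7), (48, 6)],
   [(7, 6), (40, 6), (42, 7), (47, 6)],
   [(6, 6), (41, 6), (45, 7), (49, 6)],
   [(7, 6), (40, 7), (42, 6), (47, 6)],
   [(9, 6), (39, 7), (43, 6), (48, 6)],
   [(8, 7), (38, 6), (44, 6), (46, 6)],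
   [(6, 6), (41, 7), (45, 6), (49, 6)],
   [(8, 6), (38, 7), (44, 6), (46, 6)],
   [(7, 7), (40, 6), (42, 6), (47, 6)],
   [(9, 7), (39, 6), (43, 6), (48, 6)],
   [(6, 7), (41, 6), (45, 6), (49, 6)],
   [(10, 10), (11, 3), (14, 3), (16, 10), (18, 10), (20, 10), (50, 3), (53, 10), (55, 10), (57, 10), (59, 10), (60, 10), (64, 10), (65, 3), (71, 3), (73, 3)],
   [(19, 6), (51, 6), (69, 6), (72, 7)],
   [(21, 6), (52, 6), (61, 7), (75, 6)],
   [(10, 10), (11, 3), (14, 10), (16, 3), (18, 10), (20, 10), (50, 10), (53, 3), (55, 10), (57, 10), (59, 3), (60, 3), (64, 10), (65, 3), (71, 10), (73, 10)],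
   [(15, 6), (54, 6), (68, 6), (74, 7)],
   [(10, 10), (11, 3), (14, 10), (16, 10), (18, 3), (20, 10), (50, 10), (53, 10), (55, 3), (57, 10), (59, 10), (60, 3), (64, 3), (65, 10), (71, 10), (73, 3)],
   [(17, 6), (56, 6), (63, 7), (67, 6)],
   [(10, 10), (11, 3), (14, 10), (16, 10), (18, 10), (20, 3), (50, 10), (53, 10), (55, 10), (57, 3), (59, 3), (60, 10), (64, 3), (65, 10), (71, 3), (73, 10)],
   [(13, 6), (58, 6), (70, 7), (77, 6)],
   [(10, 10), (11, 10), (14, 3), (16, 10), (18, 3), (20, 10), (50, 10), (53, 3), (55, 10), (57, 3), (59, 3), (60, 10), (64, 10), (65, 10), (71, 10), (73, 3)],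
   [(10, 10), (11, 10), (14, 3), (16, 10), (18, 10), (20, 3), (50, 10), (53, 3), (55, 3), (57, 10), (59, 10), (60, 3), (64, 10), (65, 10), (71, 3), (73, 10)],
   [(21, 6), (52, 7), (61, 6), (75, 6)],
   [(12, 6), (62, 6), (66, 7), (76, 6)],
   [(17, 6), (56, 7), (63, 6), (67, 6)],
   [(10, 10), (11, 10), (14, 3), (16, 3), (18, 10), (20, 10), (50, 10), (53, 10), (55, 3), (57, 3), (59, 10), (60, 10), (64, 3), (65, 3), (71, 10), (73, 10)],
   [(10, 10), (11, 10), (14, 10), (16, 10), (18, 3), (20, 3), (50, 3), (53, 3), (55, 10), (57, 10), (59, 10), (60, 10), (64, 3), (65, 3), (71, 10), (73, 10)],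
   [(12, 6), (62, 7), (66, 6), (76, 6)],
   [(17, 7), (56, 6), (63, 6), (67, 6)],
   [(15, 7), (54, 6), (68, 6), (74, 6)],
   [(19, 7), (51, 6), (69, 6), (72, 6)],
   [(13, 6), (58, 7), (70, 6), (77, 6)],
   [(10, 10), (11, 10), (14, 10), (16, 3), (18, 3), (20, 10), (50, 3), (53, 10), (55, 10), (57, 3), (59, 10), (60, 3), (64, 10), (65, 10), (71, 3), (73, 10)],
   [(19, 6), (51, 7), (69, 6), (72, 6)],
   [(10, 10), (11, 10), (14, 10), (16, 3), (18, 10), (20, 3), (50, 3), (53, 10), (55, 3), (57, 10), (59, 3), (60, 10), (64, 10), (65, 10), (71, 10), (73, 3)],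
   [(15, 6), (54, 7), (68, 6), (74, 6)],
   [(21, 7), (52, 6), (61, 6), (75, 6)],
   [(12, 7), (62, 6), (66, 6), (76, 6)],
   [(13, 7), (58, 6), (70, 6), (77, 6)]]

/-- The matrix of the generator g. -/
def mat_g : List (List (Nat × Nat)) :=
  [[(0, 1)],
   [(1, 12)],
   [(2, 12)],
   [(3, 1)],
   [(4, 12)],
   [(5, 12)],
   [(6, 12)],
   [(7, 1)],
   [(8, 12)],
   [(9, 12)],
   [(10, 12)],
   [(11, 1)],
   [(12, 12)],
   [(13, 1)],
   [(14, 12)],
   [(15, 12)],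
   [(16, 1)],
   [(17, 12)],
   [(18, 12)],
   [(19, 12)],
   [(20, 12)],
   [(21, 12)],
   [(22, 12)],
   [(23, 1)],
   [(24, 12)],
   [(25, 12)],
   [(26, 1)],
   [(27, 12)],
   [(28, 12)],
   [(29, 12)],
   [(30, 12)],
   [(31, 12)],
   [(32, 1)],
   [(33, 1)],
   [(34, 12)],
   [(35, 12)],
   [(36, 12)],
   [(37, 12)],
   [(38, 12)],
   [(39, 1)],
   [(40, 12)],
   [(41, 1)],
   [(42, 12)],
   [(43, 12)],
   [(44, 1)],
   [(45, 12)],
   [(46, 12)],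
   [(47, 12)],
   [(48, 12)],
   [(49, 12)],
   [(50, 12)],
   [(51, 12)],
   [(52, 1)],
   [(53, 1)],
   [(54, 12)],
   [(55, 12)],
   [(56, 12)],
   [(57, 12)],
   [(58, 12)],
   [(59, 1)],
   [(60, 1)],
   [(61, 12)],
   [(62, 12)],
   [(63, 12)],
   [(64, 12)],
   [(65, 1)],
   [(66, 1)],
   [(67, 1)],
   [(68, 1)],
   [(69, 1)],
   [(70, 12)],
   [(71, 12)],
   [(72, 12)],
   [(73, 12)],
   [(74, 12)],
   [(75, 12)],
   [(76, 12)],
   [(77, 12)]]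

/-- The matrix of the generator h. -/
def mat_h : List (List (Nat × Nat)) :=
  [[(0, 1)],
   [(1, 12)],
   [(2, 1)],
   [(3, 12)],
   [(4, 12)],
   [(5, 12)],
   [(6, 12)],
   [(7, 12)],
   [(8, 12)],
   [(9, 1)],
   [(10, 12)],
   [(11, 12)],
   [(12, 12)],
   [(13, 1)],
   [(14, 12)],
   [(15, 12)],
   [(16, 12)],
   [(17, 1)],
   [(18, 12)],
   [(19, 1)],
   [(20, 12)],
   [(21, 12)],
   [(22, 12)],
   [(23, 12)],
   [(24, 12)],
   [(25, 1)],
   [(26, 12)],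
   [(27, 12)],
   [(28, 12)],
   [(29, 1)],
   [(30, 12)],
   [(31, 12)],
   [(32, 1)],
   [(33, 12)],
   [(34, 12)],
   [(35, 12)],
   [(36, 12)],
   [(37, 1)],
   [(38, 12)],
   [(39, 1)],
   [(40, 12)],
   [(41, 12)],
   [(42, 12)],
   [(43, 1)],
   [(44, 12)],
   [(45, 12)],
   [(46, 12)],
   [(47, 12)],
   [(48, 1)],
   [(49, 12)],
   [(50, 12)],
   [(51, 1)],
   [(52, 12)],
   [(53, 12)],
   [(54, 12)],
   [(55, 12)],
   [(56, 1)],
   [(57, 12)],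
   [(58, 1)],
   [(59, 12)],
   [(60, 12)],
   [(61, 12)],
   [(62, 12)],
   [(63, 1)],
   [(64, 12)],
   [(65, 12)],
   [(66, 12)],
   [(67, 1)],
   [(68, 12)],
   [(69, 1)],
   [(70, 1)],
   [(71, 12)],
   [(72, 1)],
   [(73, 12)],
   [(74, 12)],
   [(75, 12)],
   [(76, 12)],
   [(77, 1)]]

/-- The matrix of the generator i. -/
def mat_i : List (List (Nat × Nat)) :=
  [[(0, 6), (23, 12)],
   [(1, 6), (22, 6), (24, 6), (25, 7)],
   [(2, 6), (31, 6), (34, 6), (35, 7)],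
   [(3, 6), (26, 6), (32, 6), (33, 7)],
   [(4, 6), (28, 6), (29, 6), (36, 7)],
   [(5, 6), (27, 6), (30, 6), (37, 7)],
   [(6, 6), (42, 6), (46, 6), (48, 7)],
   [(7, 6), (39, 6), (41, 6), (44, 7)],
   [(8, 6), (40, 6), (43, 6), (49, 7)],
   [(9, 6), (38, 6), (45, 6), (47, 7)],
   [(10, 3), (12, 3), (14, 3), (17, 3), (19, 3), (21, 3), (51, 10), (54, 10), (57, 10), (58, 10), (61, 10), (62, 10), (63, 10), (70, 10), (71, 10), (74, 10)],
   [(11, 6), (60, 6), (66, 6), (69, 7)],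
   [(10, 3), (12, 3), (14, 10), (17, 10), (19, 10), (21, 10), (51, 3), (54, 3), (57, 3), (58, 3), (61, 10), (62, 10), (63, 10), (70, 10), (71, 10), (74, 10)],
   [(13, 6), (53, 6), (65, 6), (68, 7)],
   [(10, 3), (12, 10), (14, 3), (17, 10), (19, 10), (21, 10), (51, 3), (54, 10), (57, 10), (58, 10), (61, 3), (62, 3), (63, 3), (70, 10), (71, 10), (74, 10)],
   [(15, 6), (55, 6), (73, 6), (77, 7)],
   [(16, 6), (52, 6), (59, 6), (67, 7)],
   [(10, 3), (12, 10), (14, 10), (17, 3), (19, 10), (21, 10), (51, 10), (54, 3), (57, 10), (58, 10), (61, 3), (62, 10), (63, 10), (70, 3), (71, 3), (74, 10)],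
   [(18, 6), (56, 6), (64, 6), (75, 7)],
   [(10, 3), (12, 10), (14, 10), (17, 10), (19, 3), (21, 10), (51, 10), (54, 10), (57, 3), (58, 10), (61, 10), (62, 3), (63, 10), (70, 3), (71, 10), (74, 3)],
   [(20, 6), (50, 6), (72, 6), (76, 7)],
   [(10, 3), (12, 10), (14, 10), (17, 10), (19, 10), (21, 3), (51, 10), (54, 10), (57, 10), (58, 3), (61, 10), (62, 10), (63, 3), (70, 10), (71, 3), (74, 3)],
   [(1, 6), (22, 6), (24, 7), (25, 6)],
   [(0, 9), (23, 7)],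
   [(1, 6), (22, 7), (24, 6), (25, 6)],
   [(1, 7), (22, 6), (24, 6), (25, 6)],
   [(3, 6), (26, 6), (32, 7), (33, 6)],
   [(5, 6), (27, 6), (30, 7), (37, 6)],
   [(4, 6), (28, 6), (29, 7), (36, 6)],
   [(4, 6), (28, 7), (29, 6), (36, 6)],
   [(5, 6), (27, 7), (30, 6), (37, 6)],
   [(2, 6), (31, 6), (34, 7), (35, 6)],
   [(3, 6), (26, 7), (32, 6), (33, 6)],
   [(3, 7), (26, 6), (32, 6), (33, 6)],
   [(2, 6), (31, 7), (34, 6), (35, 6)],
   [(2, 7), (31, 6), (34, 6), (35, 6)],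
   [(4, 7), (28, 6), (29, 6), (36, 6)],
   [(5, 7), (27, 6), (30, 6), (37, 6)],
   [(9, 6), (38, 6), (45, 7), (47, 6)],
   [(7, 6), (39, 6), (41, 7), (44, 6)],
   [(8, 6), (40, 6), (43, 7), (49, 6)],
   [(7, 6), (39, 7), (41, 6), (44, 6)],
   [(6, 6), (42, 6), (46, 7), (48, 6)],
   [(8, 6), (40, 7), (43, 6), (49, 6)],
   [(7, 7), (39, 6), (41, 6), (44, 6)],
   [(9, 6), (38, 7), (45, 6), (47, 6)],
   [(6, 6), (42, 7), (46, 6), (48, 6)],
   [(9, 7), (38, 6), (45, 6), (47, 6)],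
   [(6, 7), (42, 6), (46, 6), (48, 6)],
   [(8, 7), (40, 6), (43, 6), (49, 6)],
   [(20, 6), (50, 6), (72, 7), (76, 6)],
   [(10, 10), (12, 3), (14, 3), (17, 10), (19, 10), (21, 10), (51, 3), (54, 10), (57, 10), (58, 10), (61, 10), (62, 10), (63, 10), (70, 3), (71, 3), (74, 3)],
   [(16, 6), (52, 6), (59, 7), (67, 6)],
   [(13, 6), (53, 6), (65, 7), (68, 6)],
   [(10, 10), (12, 3), (14, 10), (17, 3), (19, 10), (21, 10), (51, 10), (54, 3), (57, 10), (58, 10), (61, 10), (62, 3), (63, 3), (70, 10), (71, 10), (74, 3)],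
   [(15, 6), (55, 6), (73, 7), (77, 6)],
   [(18, 6), (56, 6), (64, 7), (75, 6)],
   [(10, 10), (12, 3), (14, 10), (17, 10), (19, 3), (21, 10), (51, 10), (54, 10), (57, 3), (58, 10), (61, 3), (62, 10), (63, 3), (70, 10), (71, 3), (74, 10)],
   [(10, 10), (12, 3), (14, 10), (17, 10), (19, 10), (21, 3), (51, 10), (54, 10), (57, 10), (58, 3), (61, 3), (62, 3), (63, 10), (70, 3), (71, 10), (74, 10)],
   [(16, 6), (52, 7), (59, 6), (67, 6)],
   [(11, 6), (60, 6), (66, 7), (69, 6)],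
   [(10, 10), (12, 10), (14, 3), (17, 3), (19, 10), (21, 10), (51, 10), (54, 10), (57, 3), (58, 3), (61, 3), (62, 10), (63, 10), (70, 10), (71, 10), (74, 3)],
   [(10, 10), (12, 10), (14, 3), (17, 10), (19, 3), (21, 10), (51, 10), (54, 3), (57, 10), (58, 3), (61, 10), (62, 3), (63, 10), (70, 10), (71, 3), (74, 10)],
   [(10, 10), (12, 10), (14, 3), (17, 10), (19, 10), (21, 3), (51, 10), (54, 3), (57, 3), (58, 10), (61, 10), (62, 10), (63, 3), (70, 3), (71, 10), (74, 10)],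
   [(18, 6), (56, 7), (64, 6), (75, 6)],
   [(13, 6), (53, 7), (65, 6), (68, 6)],
   [(11, 6), (60, 7), (66, 6), (69, 6)],
   [(16, 7), (52, 6), (59, 6), (67, 6)],
   [(13, 7), (53, 6), (65, 6), (68, 6)],
   [(11, 7), (60, 6), (66, 6), (69, 6)],
   [(10, 10), (12, 10), (14, 10), (17, 3), (19, 3), (21, 10), (51, 3), (54, 10), (57, 10), (58, 3), (61, 10), (62, 10), (63, 3), (70, 3), (71, 10), (74, 10)],
   [(10, 10), (12, 10), (14, 10), (17, 3), (19, 10), (21, 3), (51, 3), (54, 10), (57, 3), (58, 10), (61, 10), (62, 3), (63, 10), (70, 10), (71, 3), (74, 10)],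
   [(20, 6), (50, 7), (72, 6), (76, 6)],
   [(15, 6), (55, 7), (73, 6), (77, 6)],
   [(10, 10), (12, 10), (14, 10), (17, 10), (19, 3), (21, 3), (51, 3), (54, 3), (57, 10), (58, 10), (61, 3), (62, 10), (63, 10), (70, 10), (71, 10), (74, 3)],
   [(18, 7), (56, 6), (64, 6), (75, 6)],
   [(20, 7), (50, 6), (72, 6), (76, 6)],
   [(15, 7), (55, 6), (73, 6), (77, 6)]]

/-- The matrices in table order. -/
def mats : List (List (List (Nat × Nat))) :=
  [mat_a, mat_b, mat_c, mat_d, mat_e, mat_f, mat_g, mat_h, mat_i]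

end Cfsg.Agent.Presented.FiMatrix78
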