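import Cfsg.Agent.Lib.Presented.Data.FiRigidX
import Cfsg.Agent.Lib.Presented.Data.FiRigidData
import Cfsg.Agent.Lib.Presented.Data.FiC3510
import Cfsg.Agent.Lib.Presented.Data.FiRigidConj10

/-! A slice of the centraliser search. -/

set_option autoImplicit false
set_option maxRecDepth 20000

namespace Cfsg.Agent.Presented.FiRigid

open Cfsg.Agent.Presented

theorem cent10 : ((solutions FiC3510.cert data.bs (slice XChain (10 * 220) 220) xWord xWord).all fun g =>
    (List.range 13).any fun k => sameOn FiC3510.cert data.bs g (rep k xWord)) = true := by
  decide +kernel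

end Cfsg.Agent.Presented.FiRigid
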