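import Cfsg.Agent.Lib.Presented.Data.FiRigidY
import Cfsg.Agent.Lib.Presented.Data.FiRigidData
import Cfsg.Agent.Lib.Presented.Data.FiRigidSol2

/-! A slice of the search. -/

set_option autoImplicit false
set_option maxRecDepth 20000

namespace Cfsg.Agent.Presented.FiRigid

open Cfsg.Agent.Presented

theorem sol49_ok : solutions FiC3510.cert data.bs (slice YChain (49 * 54) 54) yWord (rep 1 yWord) = cands49 := by
  decide +kernel

theorem sol50_ok : solutions FiC3510.cert data.bs (slice YChain (50 * 54) 54) yWord (rep 1 yWord) = cands50 := by
  decide +kernel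

theorem sol51_ok : solutions FiC3510.cert data.bs (slice YChain (51 * 54) 54) yWord (rep 1 yWord) = cands51 := by
  decide +kernel

theorem sol52_ok : solutions FiC3510.cert data.bs (slice YChain (52 * 54) 54) yWord (rep 1 yWord) = cands52 := by
  decide +kernel

theorem sol53_ok : solutions FiC3510.cert data.bs (slice YChain (53 * 54) 54) yWord (rep 1 yWord) = cands53 := by
  decide +kernel

theorem sol54_ok : solutions FiC3510.cert data.bs (slice YChain (54 * 54) 54) yWord (rep 1 yWord) = cands54 := by
  decide +kernel


end Cfsg.Agent.Presented.FiRigid
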