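import Cfsg.Agent.Lib.Presented.Data.FiU12672

/-! Generated certificate checks. -/

set_option autoImplicit false
set_option maxRecDepth 20000

namespace Cfsg.Agent.Presented.FiU12672

theorem E_0 : checkBlock cert.checkEdge (cert.N * cert.m) 12 0 = true := by decide +kernel

theorem E_1 : checkBlock cert.checkEdge (cert.N * cert.m) 12 4096 = true := by decide +kernel

theorem E_2 : checkBlock cert.checkEdge (cert.N * cert.m) 12 8192 = true := by decide +kernel

theorem E_3 : checkBlock cert.checkEdge (cert.N * cert.m) 12 12288 = true := by decide +kernel

theorem E_4 : checkBlock cert.checkEdge (cert.N * cert.m) 12 16384 = true := by decide +kernel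

theorem E_5 : checkBlock cert.checkEdge (cert.N * cert.m) 12 20480 = true := by decide +kernel

theorem E_6 : checkBlock cert.checkEdge (cert.N * cert.m) 12 24576 = true := by decide +kernel

theorem E_7 : checkBlock cert.checkEdge (cert.N * cert.m) 12 28672 = true := by decide +kernel

end Cfsg.Agent.Presented.FiU12672
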