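import Cfsg.Agent.Lib.Presented.Data.HeRigidData
import Cfsg.Agent.Lib.Presented.Data.HeC2058

/-! The candidates are allowed or violate a relation. -/

set_option autoImplicit false
set_option maxRecDepth 20000

namespace Cfsg.Agent.Presented.HeRigid

open Cfsg.Agent.Presented

theorem cand3_0_ok : cands0.all (data.candOK HeC2058.cert 3) = true := by
  decide +kernel

theorem cand3_1_ok : cands1.all (data.candOK HeC2058.cert 3) = true := by
  decide +kernel

theorem cand3_2_ok : cands2.all (data.candOK HeC2058.cert 3) = true := by
  decide +kernel

theorem cand3_3_ok : cands3.all (data.candOK HeC2058.cert 3) = true := by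
  decide +kernel


end Cfsg.Agent.Presented.HeRigid
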