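import Cfsg.Agent.Lib.Presented.Data.HeRigidX
import Cfsg.Agent.Lib.Presented.Data.HeRigidData
import Cfsg.Agent.Lib.Presented.Data.HeC2058

/-! A slice of the conjugacy search. -/

set_option autoImplicit false
set_option maxRecDepth 20000

namespace Cfsg.Agent.Presented.HeRigid

open Cfsg.Agent.Presented

theorem conj0_ok : solutions HeC2058.cert data.bs (slice XChain (0 * 515) 515) xWord dxWord = [] := by
  decide +kernel

end Cfsg.Agent.Presented.HeRigid
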