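import Cfsg.Agent.Lib.Presented.Data.HeRigidY

/-! The chain is checked level by level. -/

set_option autoImplicit false
set_option maxRecDepth 20000

namespace Cfsg.Agent.Presented.HeRigid

open Cfsg.Agent.Presented

theorem YLev0_ok : rlevelOK HeC2058.cert [] YLev0 = true := by
  decide +kernel

theorem YLev1_ok : rlevelOK HeC2058.cert [582] YLev1 = true := by
  decide +kernel

theorem YLev2_ok : rlevelOK HeC2058.cert [1533, 582] YLev2 = true := by
  decide +kernel

theorem YLev3_ok : rlevelOK HeC2058.cert [2, 1533, 582] YLev3 = true := by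
  decide +kernel

theorem YLev4_ok : rlevelOK HeC2058.cert [341, 2, 1533, 582] YLev4 = true := by
  decide +kernel

theorem YLev5_ok : rlevelOK HeC2058.cert [1464, 341, 2, 1533, 582] YLev5 = true := by
  decide +kernel

theorem YLev6_ok : rlevelOK HeC2058.cert [217, 1464, 341, 2, 1533, 582] YLev6 = true := by
  decide +kernel

theorem YLev7_ok : rlevelOK HeC2058.cert [49, 217, 1464, 341, 2, 1533, 582] YLev7 = true := by
  decide +kernel

theorem YLev8_ok : rlevelOK HeC2058.cert [567, 49, 217, 1464, 341, 2, 1533, 582] YLev8 = true := by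
  decide +kernel

theorem YLev9_ok : rlevelOK HeC2058.cert [1128, 567, 49, 217, 1464, 341, 2, 1533, 582] YLev9 = true := by
  decide +kernel

theorem YLev10_ok : rlevelOK HeC2058.cert [209, 1128, 567, 49, 217, 1464, 341, 2, 1533, 582] YLev10 = true := by
  decide +kernel

theorem YChain_ok : rchainOK HeC2058.cert (YChain.map Prod.fst) [] = true :=
  (rchainOK_cons YLev0_ok (rchainOK_cons YLev1_ok (rchainOK_cons YLev2_ok (rchainOK_cons YLev3_ok (rchainOK_cons YLev4_ok (rchainOK_cons YLev5_ok (rchainOK_cons YLev6_ok (rchainOK_cons YLev7_ok (rchainOK_cons YLev8_ok (rchainOK_cons YLev9_ok (rchainOK_cons YLev10_ok rfl)))))))))))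

theorem YChain_size : rsize (YChain.map Prod.fst) = 4030387200 := by
  decide +kernel

end Cfsg.Agent.Presented.HeRigid
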