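import Cfsg.Agent.Lib.Presented.Data.M24SubE0

/-! Generated checks. -/

set_option autoImplicit false
set_option maxRecDepth 20000

namespace Cfsg.Agent.Presented.M24Sub

theorem table_edgesOK : table.edgesOK 15 = true :=
  checkBelow_of_block (by decide +kernel)
    (checkBlock_join 14
    (checkBlock_join 13
    edgesOK_0
    edgesOK_1)
    (checkBlock_join 13
    edgesOK_2
    (checkBlock_ge 13 24576 (Nat.le_of_ble_eq_true (by decide +kernel)))))

end Cfsg.Agent.Presented.M24Sub
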