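import Cfsg.Agent.Lib.Presented.Data.M24Table

/-! Generated checks. -/

set_option autoImplicit false
set_option maxRecDepth 20000

namespace Cfsg.Agent.Presented.M24Table

theorem edgesOK_8 : checkBlock table.checkEdge (table.N * table.m) 13 65536 = true := by decide +kernel

theorem edgesOK_9 : checkBlock table.checkEdge (table.N * table.m) 13 73728 = true := by decide +kernel

theorem edgesOK_10 : checkBlock table.checkEdge (table.N * table.m) 13 81920 = true := by decide +kernel

theorem edgesOK_11 : checkBlock table.checkEdge (table.N * table.m) 13 90112 = true := by decide +kernel

end Cfsg.Agent.Presented.M24Table
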