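import Cfsg.Agent.Lib.Presented.Data.M24Table

/-! Generated checks. -/

set_option autoImplicit false
set_option maxRecDepth 20000

namespace Cfsg.Agent.Presented.M24Table

theorem edgesOK_12 : checkBlock table.checkEdge (table.N * table.m) 13 98304 = true := by decide +kernel

theorem edgesOK_13 : checkBlock table.checkEdge (table.N * table.m) 13 106496 = true := by decide +kernel

theorem edgesOK_14 : checkBlock table.checkEdge (table.N * table.m) 13 114688 = true := by decide +kernel

theorem edgesOK_15 : checkBlock table.checkEdge (table.N * table.m) 13 122880 = true := by decide +kernel

end Cfsg.Agent.Presented.M24Table
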