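import Cfsg.Agent.Lib.Presented.Data.M24TableE0
import Cfsg.Agent.Lib.Presented.Data.M24TableE1
import Cfsg.Agent.Lib.Presented.Data.M24TableE2
import Cfsg.Agent.Lib.Presented.Data.M24TableE3

/-! Generated checks. -/

set_option autoImplicit false
set_option maxRecDepth 20000

namespace Cfsg.Agent.Presented.M24Table

theorem table_edgesOK : table.edgesOK 17 = true :=
  checkBelow_of_block (by decide +kernel)
    (checkBlock_join 16
    (checkBlock_join 15
    (checkBlock_join 14
    (checkBlock_join 13
    edgesOK_0
    edgesOK_1)
    (checkBlock_join 13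
    edgesOK_2
    edgesOK_3))
    (checkBlock_join 14
    (checkBlock_join 13
    edgesOK_4
    edgesOK_5)
    (checkBlock_join 13
    edgesOK_6
    edgesOK_7)))
    (checkBlock_join 15
    (checkBlock_join 14
    (checkBlock_join 13
    edgesOK_8
    edgesOK_9)
    (checkBlock_join 13
    edgesOK_10
    edgesOK_11))
    (checkBlock_join 14
    (checkBlock_join 13
    edgesOK_12
    edgesOK_13)
    (checkBlock_join 13
    edgesOK_14
    edgesOK_15))))

end Cfsg.Agent.Presented.M24Table
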