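import Cfsg.Agent.Lib.Presented.Data.RuC4060

/-! Generated certificate checks. -/

set_option autoImplicit false
set_option maxRecDepth 20000

namespace Cfsg.Agent.Presented.RuC4060

theorem wordsOK_5 : checkBlock cert.checkWords cert.N 6 320 = true := by decide +kernel

theorem wordsOK_6 : checkBlock cert.checkWords cert.N 6 384 = true := by decide +kernel

theorem wordsOK_7 : checkBlock cert.checkWords cert.N 6 448 = true := by decide +kernel

theorem wordsOK_8 : checkBlock cert.checkWords cert.N 6 512 = true := by decide +kernel

theorem wordsOK_9 : checkBlock cert.checkWords cert.N 6 576 = true := by decide +kernel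

theorem wordsOK_10 : checkBlock cert.checkWords cert.N 6 640 = true := by decide +kernel

theorem wordsOK_11 : checkBlock cert.checkWords cert.N 6 704 = true := by decide +kernel

theorem wordsOK_12 : checkBlock cert.checkWords cert.N 6 768 = true := by decide +kernel

theorem wordsOK_13 : checkBlock cert.checkWords cert.N 6 832 = true := by decide +kernel

theorem wordsOK_14 : checkBlock cert.checkWords cert.N 6 896 = true := by decide +kernel

end Cfsg.Agent.Presented.RuC4060
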