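import Cfsg.Agent.Lib.Presented.Data.RuC4060

/-! Generated certificate checks. -/

set_option autoImplicit false
set_option maxRecDepth 20000

namespace Cfsg.Agent.Presented.RuC4060

theorem wordsOK_15 : checkBlock cert.checkWords cert.N 6 960 = true := by decide +kernel

theorem wordsOK_16 : checkBlock cert.checkWords cert.N 6 1024 = true := by decide +kernel

theorem wordsOK_17 : checkBlock cert.checkWords cert.N 6 1088 = true := by decide +kernel

theorem wordsOK_18 : checkBlock cert.checkWords cert.N 6 1152 = true := by decide +kernel

theorem wordsOK_19 : checkBlock cert.checkWords cert.N 6 1216 = true := by decide +kernel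

theorem wordsOK_20 : checkBlock cert.checkWords cert.N 6 1280 = true := by decide +kernel

theorem wordsOK_21 : checkBlock cert.checkWords cert.N 6 1344 = true := by decide +kernel

theorem wordsOK_22 : checkBlock cert.checkWords cert.N 6 1408 = true := by decide +kernel

theorem wordsOK_23 : checkBlock cert.checkWords cert.N 6 1472 = true := by decide +kernel

theorem wordsOK_24 : checkBlock cert.checkWords cert.N 6 1536 = true := by decide +kernel

end Cfsg.Agent.Presented.RuC4060
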