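import Cfsg.Agent.Lib.Presented.Data.RuC4060

/-! Generated certificate checks. -/

set_option autoImplicit false
set_option maxRecDepth 20000

namespace Cfsg.Agent.Presented.RuC4060

theorem wordsOK_25 : checkBlock cert.checkWords cert.N 6 1600 = true := by decide +kernel

theorem wordsOK_26 : checkBlock cert.checkWords cert.N 6 1664 = true := by decide +kernel

theorem wordsOK_27 : checkBlock cert.checkWords cert.N 6 1728 = true := by decide +kernel

theorem wordsOK_28 : checkBlock cert.checkWords cert.N 6 1792 = true := by decide +kernel

theorem wordsOK_29 : checkBlock cert.checkWords cert.N 6 1856 = true := by decide +kernel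

theorem wordsOK_30 : checkBlock cert.checkWords cert.N 6 1920 = true := by decide +kernel

theorem wordsOK_31 : checkBlock cert.checkWords cert.N 6 1984 = true := by decide +kernel

theorem wordsOK_32 : checkBlock cert.checkWords cert.N 6 2048 = true := by decide +kernel

theorem wordsOK_33 : checkBlock cert.checkWords cert.N 6 2112 = true := by decide +kernel

theorem wordsOK_34 : checkBlock cert.checkWords cert.N 6 2176 = true := by decide +kernel

end Cfsg.Agent.Presented.RuC4060
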