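import Cfsg.Agent.Lib.Presented.Data.RuC4060

/-! Generated certificate checks. -/

set_option autoImplicit false
set_option maxRecDepth 20000

namespace Cfsg.Agent.Presented.RuC4060

theorem wordsOK_35 : checkBlock cert.checkWords cert.N 6 2240 = true := by decide +kernel

theorem wordsOK_36 : checkBlock cert.checkWords cert.N 6 2304 = true := by decide +kernel

theorem wordsOK_37 : checkBlock cert.checkWords cert.N 6 2368 = true := by decide +kernel

theorem wordsOK_38 : checkBlock cert.checkWords cert.N 6 2432 = true := by decide +kernel

theorem wordsOK_39 : checkBlock cert.checkWords cert.N 6 2496 = true := by decide +kernel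

theorem wordsOK_40 : checkBlock cert.checkWords cert.N 6 2560 = true := by decide +kernel

theorem wordsOK_41 : checkBlock cert.checkWords cert.N 6 2624 = true := by decide +kernel

theorem wordsOK_42 : checkBlock cert.checkWords cert.N 6 2688 = true := by decide +kernel

theorem wordsOK_43 : checkBlock cert.checkWords cert.N 6 2752 = true := by decide +kernel

theorem wordsOK_44 : checkBlock cert.checkWords cert.N 6 2816 = true := by decide +kernel

end Cfsg.Agent.Presented.RuC4060
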