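import Cfsg.Agent.Lib.Presented.Data.RuC4060

/-! Generated certificate checks. -/

set_option autoImplicit false
set_option maxRecDepth 20000

namespace Cfsg.Agent.Presented.RuC4060

theorem wordsOK_45 : checkBlock cert.checkWords cert.N 6 2880 = true := by decide +kernel

theorem wordsOK_46 : checkBlock cert.checkWords cert.N 6 2944 = true := by decide +kernel

theorem wordsOK_47 : checkBlock cert.checkWords cert.N 6 3008 = true := by decide +kernel

theorem wordsOK_48 : checkBlock cert.checkWords cert.N 6 3072 = true := by decide +kernel

theorem wordsOK_49 : checkBlock cert.checkWords cert.N 6 3136 = true := by decide +kernel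

theorem wordsOK_50 : checkBlock cert.checkWords cert.N 6 3200 = true := by decide +kernel

theorem wordsOK_51 : checkBlock cert.checkWords cert.N 6 3264 = true := by decide +kernel

theorem wordsOK_52 : checkBlock cert.checkWords cert.N 6 3328 = true := by decide +kernel

theorem wordsOK_53 : checkBlock cert.checkWords cert.N 6 3392 = true := by decide +kernel

theorem wordsOK_54 : checkBlock cert.checkWords cert.N 6 3456 = true := by decide +kernel

end Cfsg.Agent.Presented.RuC4060
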