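import Cfsg.Agent.Lib.Presented.Data.RuC4060

/-! Generated certificate checks. -/

set_option autoImplicit false
set_option maxRecDepth 20000

namespace Cfsg.Agent.Presented.RuC4060

theorem wordsOK_55 : checkBlock cert.checkWords cert.N 6 3520 = true := by decide +kernel

theorem wordsOK_56 : checkBlock cert.checkWords cert.N 6 3584 = true := by decide +kernel

theorem wordsOK_57 : checkBlock cert.checkWords cert.N 6 3648 = true := by decide +kernel

theorem wordsOK_58 : checkBlock cert.checkWords cert.N 6 3712 = true := by decide +kernel

theorem wordsOK_59 : checkBlock cert.checkWords cert.N 6 3776 = true := by decide +kernel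

theorem wordsOK_60 : checkBlock cert.checkWords cert.N 6 3840 = true := by decide +kernel

theorem wordsOK_61 : checkBlock cert.checkWords cert.N 6 3904 = true := by decide +kernel

theorem wordsOK_62 : checkBlock cert.checkWords cert.N 6 3968 = true := by decide +kernel

theorem wordsOK_63 : checkBlock cert.checkWords cert.N 6 4032 = true := by decide +kernel

end Cfsg.Agent.Presented.RuC4060
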