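import Cfsg.Agent.Lib.Presented.Data.RuC4060E0
import Cfsg.Agent.Lib.Presented.Data.RuC4060E1
import Cfsg.Agent.Lib.Presented.Data.RuC4060E2
import Cfsg.Agent.Lib.Presented.Data.RuC4060E3
import Cfsg.Agent.Lib.Presented.Data.RuC4060E4
import Cfsg.Agent.Lib.Presented.Data.RuC4060E5
import Cfsg.Agent.Lib.Presented.Data.RuC4060E6

/-! Generated certificate checks. -/

set_option autoImplicit false
set_option maxRecDepth 20000

namespace Cfsg.Agent.Presented.RuC4060

theorem cert_edgesOK : cert.edgesOK = true :=
  checkBelow_of_block (by decide +kernel)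
    (checkBlock_join 14
    (checkBlock_join 13
    (checkBlock_join 12
    edgesOK_0
    edgesOK_1)
    (checkBlock_join 12
    edgesOK_2
    edgesOK_3))
    (checkBlock_join 13
    (checkBlock_join 12
    edgesOK_4
    (checkBlock_ge 12 20480 (Nat.le_of_ble_eq_true (by decide +kernel))))
    (checkBlock_ge 13 24576 (Nat.le_of_ble_eq_true (by decide +kernel)))))

theorem cert_wordsOK : cert.wordsOK = true :=
  checkBelow_of_block (by decide +kernel)
    (checkBlock_join 14
    (checkBlock_join 13
    (checkBlock_join 12
    (checkBlock_join 11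
    (checkBlock_join 10
    (checkBlock_join 9
    (checkBlock_join 8
    (checkBlock_join 7
    (checkBlock_join 6
    wordsOK_0
    wordsOK_1)
    (checkBlock_join 6
    wordsOK_2
    wordsOK_3))
    (checkBlock_join 7
    (checkBlock_join 6
    wordsOK_4
    wordsOK_5)
    (checkBlock_join 6
    wordsOK_6
    wordsOK_7)))
    (checkBlock_join 8
    (checkBlock_join 7
    (checkBlock_join 6
    wordsOK_8
    wordsOK_9)
    (checkBlock_join 6
    wordsOK_10
    wordsOK_11))
    (checkBlock_join 7
    (checkBlock_join 6
    wordsOK_12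
    wordsOK_13)
    (checkBlock_join 6
    wordsOK_14
    wordsOK_15))))
    (checkBlock_join 9
    (checkBlock_join 8
    (checkBlock_join 7
    (checkBlock_join 6
    wordsOK_16
    wordsOK_17)
    (checkBlock_join 6
    wordsOK_18
    wordsOK_19))
    (checkBlock_join 7
    (checkBlock_join 6
    wordsOK_20
    wordsOK_21)
    (checkBlock_join 6
    wordsOK_22
    wordsOK_23)))
    (checkBlock_join 8
    (checkBlock_join 7
    (checkBlock_join 6
    wordsOK_24
    wordsOK_25)
    (checkBlock_join 6
    wordsOK_26
    wordsOK_27))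
    (checkBlock_join 7
    (checkBlock_join 6
    wordsOK_28
    wordsOK_29)
    (checkBlock_join 6
    wordsOK_30
    wordsOK_31)))))
    (checkBlock_join 10
    (checkBlock_join 9
    (checkBlock_join 8
    (checkBlock_join 7
    (checkBlock_join 6
    wordsOK_32
    wordsOK_33)
    (checkBlock_join 6
    wordsOK_34
    wordsOK_35))
    (checkBlock_join 7
    (checkBlock_join 6
    wordsOK_36
    wordsOK_37)
    (checkBlock_join 6
    wordsOK_38
    wordsOK_39)))
    (checkBlock_join 8
    (checkBlock_join 7
    (checkBlock_join 6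
    wordsOK_40
    wordsOK_41)
    (checkBlock_join 6
    wordsOK_42
    wordsOK_43))
    (checkBlock_join 7
    (checkBlock_join 6
    wordsOK_44
    wordsOK_45)
    (checkBlock_join 6
    wordsOK_46
    wordsOK_47))))
    (checkBlock_join 9
    (checkBlock_join 8
    (checkBlock_join 7
    (checkBlock_join 6
    wordsOK_48
    wordsOK_49)
    (checkBlock_join 6
    wordsOK_50
    wordsOK_51))
    (checkBlock_join 7
    (checkBlock_join 6
    wordsOK_52
    wordsOK_53)
    (checkBlock_join 6
    wordsOK_54
    wordsOK_55)))
    (checkBlock_join 8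
    (checkBlock_join 7
    (checkBlock_join 6
    wordsOK_56
    wordsOK_57)
    (checkBlock_join 6
    wordsOK_58
    wordsOK_59))
    (checkBlock_join 7
    (checkBlock_join 6
    wordsOK_60
    wordsOK_61)
    (checkBlock_join 6
    wordsOK_62
    wordsOK_63))))))
    (checkBlock_ge 12 4096 (Nat.le_of_ble_eq_true (by decide +kernel))))
    (checkBlock_ge 13 8192 (Nat.le_of_ble_eq_true (by decide +kernel))))
    (checkBlock_ge 14 16384 (Nat.le_of_ble_eq_true (by decide +kernel))))

end Cfsg.Agent.Presented.RuC4060
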