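import Cfsg.Agent.Lib.Presented.Data.RuC4060

/-! Generated certificate checks. -/

set_option autoImplicit false
set_option maxRecDepth 20000

namespace Cfsg.Agent.Presented.RuC4060

theorem edgesOK_0 : checkBlock cert.checkEdge (cert.N * cert.m) 12 0 = true := by decide +kernel

theorem edgesOK_1 : checkBlock cert.checkEdge (cert.N * cert.m) 12 4096 = true := by decide +kernel

theorem edgesOK_2 : checkBlock cert.checkEdge (cert.N * cert.m) 12 8192 = true := by decide +kernel

theorem edgesOK_3 : checkBlock cert.checkEdge (cert.N * cert.m) 12 12288 = true := by decide +kernel

theorem edgesOK_4 : checkBlock cert.checkEdge (cert.N * cert.m) 12 16384 = true := by decide +kernel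

theorem wordsOK_0 : checkBlock cert.checkWords cert.N 6 0 = true := by decide +kernel

theorem wordsOK_1 : checkBlock cert.checkWords cert.N 6 64 = true := by decide +kernel

theorem wordsOK_2 : checkBlock cert.checkWords cert.N 6 128 = true := by decide +kernel

theorem wordsOK_3 : checkBlock cert.checkWords cert.N 6 192 = true := by decide +kernel

theorem wordsOK_4 : checkBlock cert.checkWords cert.N 6 256 = true := by decide +kernel

end Cfsg.Agent.Presented.RuC4060
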