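import Cfsg.Agent.Lib.Presented.Data.RuMultData

/-! Generated linear certificate data. -/

set_option autoImplicit false
set_option maxRecDepth 20000
set_option maxHeartbeats 4000000

namespace Cfsg.Agent.Presented.RuMult

theorem labels_8 : checkBlock lin.checkLabel (lin.D.N * lin.D.m) 11 16384 = true := by decide +kernel

theorem labels_9 : checkBlock lin.checkLabel (lin.D.N * lin.D.m) 11 18432 = true := by decide +kernel

end Cfsg.Agent.Presented.RuMult
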