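import Cfsg.Agent.Lib.Presented.Data.RuMultE0
import Cfsg.Agent.Lib.Presented.Data.RuMultE1
import Cfsg.Agent.Lib.Presented.Data.RuMultE2
import Cfsg.Agent.Lib.Presented.Data.RuMultE3
import Cfsg.Agent.Lib.Presented.Data.RuMultE4

/-! Generated linear certificate data. -/

set_option autoImplicit false
set_option maxRecDepth 20000
set_option maxHeartbeats 4000000

namespace Cfsg.Agent.Presented.RuMult

theorem labelsOK : lin.labelsOK = true :=
  checkBelow_of_block (by decide +kernel)
    (checkBlock_join 14
    (checkBlock_join 13
    (checkBlock_join 12
    (checkBlock_join 11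
    labels_0
    labels_1)
    (checkBlock_join 11
    labels_2
    labels_3))
    (checkBlock_join 12
    (checkBlock_join 11
    labels_4
    labels_5)
    (checkBlock_join 11
    labels_6
    labels_7)))
    (checkBlock_join 13
    (checkBlock_join 12
    (checkBlock_join 11
    labels_8
    labels_9)
    (checkBlock_ge 12 20480 (Nat.le_of_ble_eq_true (by decide +kernel))))
    (checkBlock_ge 13 24576 (Nat.le_of_ble_eq_true (by decide +kernel)))))

end Cfsg.Agent.Presented.RuMult
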