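import Cfsg.Agent.Lib.Presented.Data.RuMultData

/-! Generated linear certificate data. -/

set_option autoImplicit false
set_option maxRecDepth 20000
set_option maxHeartbeats 4000000

namespace Cfsg.Agent.Presented.RuMult

theorem shape : LinCert.modShapeOK lin kill coTwo = true := by decide +kernel

theorem tkill_eq : LinCert.targetList lin kill = tkill := by decide +kernel

theorem packed : LinCert.packedOK lin pk 134 = true := by decide +kernel

theorem rows0 : ((List.range' 0 76).all fun r => LinCert.fastRowOK lin pk tkill fs 134 r) = true := by decide +kernel

theorem checkMod : LinCert.checkMod lin kill fs coTwo = true := by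
  refine LinCert.checkMod_of_rows shape tkill_eq fun r hr => ?_
  have hnc : lin.nc = 76 := by decide +kernel
  rw [hnc] at hr
  exact LinCert.modRowOK_of_fast packed
    (List.all_eq_true.mp rows0 r (List.mem_range'_1.mpr ⟨by omega, by omega⟩))

end Cfsg.Agent.Presented.RuMult
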