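import Cfsg.Agent.Lib.Presented.Data.RuMultTable

/-! Generated linear certificate data. -/

set_option autoImplicit false
set_option maxRecDepth 20000
set_option maxHeartbeats 4000000

namespace Cfsg.Agent.Presented.RuMult

theorem edges_0 : checkBlock cert.checkEdge (cert.N * cert.m) 11 0 = true := by decide +kernel

theorem edges_1 : checkBlock cert.checkEdge (cert.N * cert.m) 11 2048 = true := by decide +kernel

theorem edges_2 : checkBlock cert.checkEdge (cert.N * cert.m) 11 4096 = true := by decide +kernel

theorem edges_3 : checkBlock cert.checkEdge (cert.N * cert.m) 11 6144 = true := by decide +kernel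

theorem edges_4 : checkBlock cert.checkEdge (cert.N * cert.m) 11 8192 = true := by decide +kernel

theorem edges_5 : checkBlock cert.checkEdge (cert.N * cert.m) 11 10240 = true := by decide +kernel

theorem edges_6 : checkBlock cert.checkEdge (cert.N * cert.m) 11 12288 = true := by decide +kernel

theorem edges_7 : checkBlock cert.checkEdge (cert.N * cert.m) 11 14336 = true := by decide +kernel

theorem edges_8 : checkBlock cert.checkEdge (cert.N * cert.m) 11 16384 = true := by decide +kernel

theorem edges_9 : checkBlock cert.checkEdge (cert.N * cert.m) 11 18432 = true := by decide +kernel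

theorem cert_edgesOK : cert.edgesOK = true :=
  checkBelow_of_block (by decide +kernel)
    (checkBlock_join 14
    (checkBlock_join 13
    (checkBlock_join 12
    (checkBlock_join 11
    edges_0
    edges_1)
    (checkBlock_join 11
    edges_2
    edges_3))
    (checkBlock_join 12
    (checkBlock_join 11
    edges_4
    edges_5)
    (checkBlock_join 11
    edges_6
    edges_7)))
    (checkBlock_join 13
    (checkBlock_join 12
    (checkBlock_join 11
    edges_8
    edges_9)
    (checkBlock_ge 12 20480 (Nat.le_of_ble_eq_true (by decide +kernel))))
    (checkBlock_ge 13 24576 (Nat.le_of_ble_eq_true (by decide +kernel)))))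

end Cfsg.Agent.Presented.RuMult
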