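import Cfsg.Agent.Lib.Presented.Coset

/-! Generated coset table certificate data. -/

set_option autoImplicit false
set_option maxRecDepth 20000

namespace Cfsg.Agent.Presented.RuT26

/-- Table data. -/
noncomputable def actT : NTree :=
 (.leaf 0xc5f36ae698bced28d6149be4e6c5907adca4b50c59d462a48838cc20940418041)

/-- Table data. -/
noncomputable def rankT : NTree :=
 (.leaf 0xcf1cafb70aeeb29aa79688e692189f7606de7196975584d651148f3502ce3092871480c6101080)

/-- Table data. -/
noncomputable def justT : NTree :=
 (.leaf 0x10001c00a0001000100000001000000000001000000010001000000010000000000010000000100010000000100000000000100000001000100000001000000000001000000010001000000010000000000010000000100010000000100000000000100000000)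

/-- Table data. -/
noncomputable def parT : NTree :=
 (.leaf 0xbacae99a48e179c6d95944d138c2c91840c1000)

/-- Coset table certificate. -/
noncomputable def cert : CosetCert where
  N := 26
  m := 2
  depth := 6
  aw := 5
  rw := 6
  jw := 16
  pw := 6
  nR := 3
  words :=
   [[0, 0],
    [1, 1],
    [1, 0, 1, 0, 1, 0, 1, 0, 1, 0, 1, 0, 1, 0, 1, 0, 1, 0, 1, 0, 1, 0, 1, 0, 1, 0]]
  act := actT
  rank := rankT
  just := justT
  par := parT

theorem edgesOK_0 : checkBlock cert.checkEdge (cert.N * cert.m) 6 0 = true := by decide +kernel

theorem cert_edgesOK : cert.edgesOK = true :=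
  checkBelow_of_block (by decide +kernel)
    edgesOK_0

theorem cert_nodesOK : cert.nodesOK = true := by decide +kernel

end Cfsg.Agent.Presented.RuT26
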