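import Mathlib

/-! Generated matrices of degree 12 over the field of seven elements for the sixfold cover of the Suzuki group, rows packed in fields of 17 bits. -/

set_option autoImplicit false

namespace Cfsg.Agent.Presented.SuzCoverData

/-- The seven matrices. -/
def mats : List (List ℕ) :=
  [[0x6, 0xc0000, 0x1800000000, 0x30000000000000, 0x600000000000000000, 0xc000000000000000000000, 0x180000000000000000000000000, 0x3000000000000000000000000000000, 0x10000000000000000000000000000000000, 0x200000000000000000000000000000000000000, 0x4000000000000000000000000000000000000000000, 0x80000000000000000000000000000000000000000000000],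
   [0xa0001000200008000a000600000000000000004, 0x20001000100014000c000100000000000080000, 0x3000100008000500030000c0000000000000001000000000, 0x200010000a00050001800100000000000020000000000000, 0x180000000000000000000060002000180014000c0003, 0x300000000000000000000000004000200028000800060004, 0xc000000020001800080000000000028001800000000, 0x180000000400000001000080000000000030000400000000, 0x8000200000000400000003000000000000c0004, 0x400050000800000006000000000000000080004, 0x200008000000000000000000000000500028000400060002, 0x10001400000000000000000000a000000008000400040002],
   [0x6, 0xc0000, 0x1800000000, 0x30000000000000, 0x100000000000000000, 0x2000000000000000000000, 0x40000000000000000000000000, 0x800000000000000000000000000000, 0x10000000000000000000000000000000000, 0x200000000000000000000000000000000000000, 0x4000000000000000000000000000000000000000000, 0x80000000000000000000000000000000000000000000000],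
   [0x180000000300000001800000003, 0x3000000006000000030000000060000, 0x100000000600000001000000006, 0x200000000c0000000200000000c0000, 0x40000000400000001800000003, 0x800000008000000030000000060000, 0xc0000000100000001000000006, 0x18000000020000000200000000c0000, 0x180004000200020000000000000000000000000000000000, 0x80008000400030000000000000000000000000000000000, 0x300014000600000000000000000000000000000000000000, 0x280010000000020000000000000000000000000000000000],
   [0x800000004, 0x10000000080000, 0xc00000002, 0x18000000040000, 0x100000000500000000000000000, 0x200000000a000000000000000000000, 0x80000000400000000000000000, 0x1000000008000000000000000000000, 0x4000000000000000000000000000000000000000000, 0x80000000000000000000000000000000000000000000000, 0x60000000000000000000000000000000000, 0xc00000000000000000000000000000000000000],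
   [0x1, 0xc0001, 0x400000000, 0x30000400000000, 0x100000000000000000, 0xc000100000000000000000, 0x40000000000000000000000000, 0x3000040000000000000000000000000, 0x10000000000000000000000000000000000, 0x200000000000000000000000000000000000000, 0x4000000000000000000000000000000000000000000, 0x80000000000000000000000000000000000000000000000],
   [0xa0001, 0xc0000, 0x28000400000000, 0x30000000000000, 0xa000100000000000000000, 0xc000000000000000000000, 0x2800040000000000000000000000000, 0x3000000000000000000000000000000, 0x10000000000000000000000000000000000, 0x200000000000000000000000000000000000000, 0x4000000000000000000000000000000000000000000, 0x80000000000000000000000000000000000000000000000]]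

/-- A relator of scalar value of order six. -/
def zWord : List ℕ := [6, 5, 1, 6, 5, 1, 6, 5, 1, 6, 5, 1, 6, 5, 1]

/-- Two words with the same letters. -/
def pWord : List ℕ := [0, 0, 3, 3, 4, 4, 0, 3, 0, 3, 0, 4, 0, 4, 1, 2, 1, 2, 1, 2, 1, 6, 1, 6, 1, 6, 2, 5, 2, 5, 2, 5, 2, 5, 2, 5, 2, 5, 6, 5, 1, 6, 5, 1, 6, 5, 1, 6, 5, 1, 6, 5, 1]

/-- The word with the same letters as `pWord`. -/
def nWord : List ℕ := [1, 1, 5, 5, 5, 5, 6, 6, 1, 3, 1, 3, 1, 3, 1, 3, 2, 4, 2, 4, 2, 6, 2, 6, 4, 6, 4, 6, 5, 6, 5, 6, 0, 5, 2, 1, 0, 5, 2, 1, 0, 5, 2, 1, 0, 5, 2, 1, 0, 5, 2, 1, 0]

end Cfsg.Agent.Presented.SuzCoverData
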