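import Cfsg.Agent.Lib.Presented.Data.SuzRigidData
import Cfsg.Agent.Lib.Presented.Data.SuzC1782

/-! The candidates are allowed or violate a relation. -/

set_option autoImplicit false
set_option maxRecDepth 20000

namespace Cfsg.Agent.Presented.SuzRigid

open Cfsg.Agent.Presented

theorem cand1_2_ok : cands2.all (data.candOK SuzC1782.cert 1) = true := by
  decide +kernel

theorem cand1_3_ok : cands3.all (data.candOK SuzC1782.cert 1) = true := by
  decide +kernel


end Cfsg.Agent.Presented.SuzRigid
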