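import Cfsg.Agent.Lib.Presented.Data.SuzRigidY
import Cfsg.Agent.Lib.Presented.Data.SuzRigidData

/-! A slice of the search. -/

set_option autoImplicit false
set_option maxRecDepth 20000

namespace Cfsg.Agent.Presented.SuzRigid

open Cfsg.Agent.Presented

theorem sol2_ok : solutions SuzC1782.cert data.bs (slice YChain (2 * 446) 446) yWord (rep 1 yWord) = cands2 := by
  decide +kernel

end Cfsg.Agent.Presented.SuzRigid
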