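import Cfsg.Agent.Lib.Presented.Data.SuzRigidX

/-! The chain is checked level by level. -/

set_option autoImplicit false
set_option maxRecDepth 20000

namespace Cfsg.Agent.Presented.SuzRigid

open Cfsg.Agent.Presented

theorem XLev0_ok : rlevelOK SuzC1782.cert [] XLev0 = true := by
  decide +kernel

theorem XLev1_ok : rlevelOK SuzC1782.cert [943] XLev1 = true := by
  decide +kernel

theorem XLev2_ok : rlevelOK SuzC1782.cert [0, 943] XLev2 = true := by
  decide +kernel

theorem XLev3_ok : rlevelOK SuzC1782.cert [8, 0, 943] XLev3 = true := by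
  decide +kernel

theorem XLev4_ok : rlevelOK SuzC1782.cert [156, 8, 0, 943] XLev4 = true := by
  decide +kernel

theorem XLev5_ok : rlevelOK SuzC1782.cert [418, 156, 8, 0, 943] XLev5 = true := by
  decide +kernel

theorem XChain_ok : rchainOK SuzC1782.cert (XChain.map Prod.fst) [] = true :=
  (rchainOK_cons XLev0_ok (rchainOK_cons XLev1_ok (rchainOK_cons XLev2_ok (rchainOK_cons XLev3_ok (rchainOK_cons XLev4_ok (rchainOK_cons XLev5_ok rfl))))))

theorem XChain_size : rsize (XChain.map Prod.fst) = 448345497600 := by
  decide +kernel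

end Cfsg.Agent.Presented.SuzRigid
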