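import Cfsg.Agent.Lib.Presented.Data.SuzT22880

/-! Generated certificate checks. -/

set_option autoImplicit false
set_option maxRecDepth 20000

namespace Cfsg.Agent.Presented.SuzT22880

theorem edgesOK_10 : checkBlock cert.checkEdge (cert.N * cert.m) 12 40960 = true := by decide +kernel

theorem edgesOK_11 : checkBlock cert.checkEdge (cert.N * cert.m) 12 45056 = true := by decide +kernel

theorem edgesOK_12 : checkBlock cert.checkEdge (cert.N * cert.m) 12 49152 = true := by decide +kernel

theorem edgesOK_13 : checkBlock cert.checkEdge (cert.N * cert.m) 12 53248 = true := by decide +kernel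

theorem edgesOK_14 : checkBlock cert.checkEdge (cert.N * cert.m) 12 57344 = true := by decide +kernel

theorem edgesOK_15 : checkBlock cert.checkEdge (cert.N * cert.m) 12 61440 = true := by decide +kernel

theorem edgesOK_16 : checkBlock cert.checkEdge (cert.N * cert.m) 12 65536 = true := by decide +kernel

theorem edgesOK_17 : checkBlock cert.checkEdge (cert.N * cert.m) 12 69632 = true := by decide +kernel

theorem edgesOK_18 : checkBlock cert.checkEdge (cert.N * cert.m) 12 73728 = true := by decide +kernel

theorem edgesOK_19 : checkBlock cert.checkEdge (cert.N * cert.m) 12 77824 = true := by decide +kernel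

end Cfsg.Agent.Presented.SuzT22880
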