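import Cfsg.Agent.Lib.Presented.Data.SuzT22880

/-! Generated certificate checks. -/

set_option autoImplicit false
set_option maxRecDepth 20000

namespace Cfsg.Agent.Presented.SuzT22880

theorem edgesOK_20 : checkBlock cert.checkEdge (cert.N * cert.m) 12 81920 = true := by decide +kernel

theorem edgesOK_21 : checkBlock cert.checkEdge (cert.N * cert.m) 12 86016 = true := by decide +kernel

theorem edgesOK_22 : checkBlock cert.checkEdge (cert.N * cert.m) 12 90112 = true := by decide +kernel

theorem edgesOK_23 : checkBlock cert.checkEdge (cert.N * cert.m) 12 94208 = true := by decide +kernel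

theorem edgesOK_24 : checkBlock cert.checkEdge (cert.N * cert.m) 12 98304 = true := by decide +kernel

theorem edgesOK_25 : checkBlock cert.checkEdge (cert.N * cert.m) 12 102400 = true := by decide +kernel

theorem edgesOK_26 : checkBlock cert.checkEdge (cert.N * cert.m) 12 106496 = true := by decide +kernel

theorem edgesOK_27 : checkBlock cert.checkEdge (cert.N * cert.m) 12 110592 = true := by decide +kernel

theorem edgesOK_28 : checkBlock cert.checkEdge (cert.N * cert.m) 12 114688 = true := by decide +kernel

theorem edgesOK_29 : checkBlock cert.checkEdge (cert.N * cert.m) 12 118784 = true := by decide +kernel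

end Cfsg.Agent.Presented.SuzT22880
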