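import Cfsg.Agent.Lib.Presented.Data.SuzT22880

/-! Generated certificate checks. -/

set_option autoImplicit false
set_option maxRecDepth 20000

namespace Cfsg.Agent.Presented.SuzT22880

theorem edgesOK_30 : checkBlock cert.checkEdge (cert.N * cert.m) 12 122880 = true := by decide +kernel

theorem edgesOK_31 : checkBlock cert.checkEdge (cert.N * cert.m) 12 126976 = true := by decide +kernel

theorem edgesOK_32 : checkBlock cert.checkEdge (cert.N * cert.m) 12 131072 = true := by decide +kernel

theorem edgesOK_33 : checkBlock cert.checkEdge (cert.N * cert.m) 12 135168 = true := by decide +kernel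

theorem edgesOK_34 : checkBlock cert.checkEdge (cert.N * cert.m) 12 139264 = true := by decide +kernel

theorem edgesOK_35 : checkBlock cert.checkEdge (cert.N * cert.m) 12 143360 = true := by decide +kernel

theorem edgesOK_36 : checkBlock cert.checkEdge (cert.N * cert.m) 12 147456 = true := by decide +kernel

theorem edgesOK_37 : checkBlock cert.checkEdge (cert.N * cert.m) 12 151552 = true := by decide +kernel

theorem edgesOK_38 : checkBlock cert.checkEdge (cert.N * cert.m) 12 155648 = true := by decide +kernel

theorem edgesOK_39 : checkBlock cert.checkEdge (cert.N * cert.m) 12 159744 = true := by decide +kernel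

end Cfsg.Agent.Presented.SuzT22880
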