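import Cfsg.Agent.Lib.Presented.Data.TitsC3200E0
import Cfsg.Agent.Lib.Presented.Data.TitsC3200E1

/-! Generated certificate checks. -/

set_option autoImplicit false
set_option maxRecDepth 20000

namespace Cfsg.Agent.Presented.TitsC3200

theorem cert_edgesOK : cert.edgesOK = true :=
  checkBelow_of_block (by decide +kernel)
    (checkBlock_join 13
    (checkBlock_join 12
    edgesOK_0
    edgesOK_1)
    (checkBlock_join 12
    edgesOK_2
    edgesOK_3))

theorem cert_wordsOK : cert.wordsOK = true :=
  checkBelow_of_block (by decide +kernel)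
    (checkBlock_join 13
    (checkBlock_join 12
    (checkBlock_join 11
    (checkBlock_join 10
    (checkBlock_join 9
    (checkBlock_join 8
    wordsOK_0
    wordsOK_1)
    (checkBlock_join 8
    wordsOK_2
    wordsOK_3))
    (checkBlock_join 9
    (checkBlock_join 8
    wordsOK_4
    wordsOK_5)
    (checkBlock_join 8
    wordsOK_6
    wordsOK_7)))
    (checkBlock_join 10
    (checkBlock_join 9
    (checkBlock_join 8
    wordsOK_8
    wordsOK_9)
    (checkBlock_join 8
    wordsOK_10
    wordsOK_11))
    (checkBlock_join 9
    (checkBlock_join 8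
    wordsOK_12
    (checkBlock_ge 8 3328 (Nat.le_of_ble_eq_true (by decide +kernel))))
    (checkBlock_ge 9 3584 (Nat.le_of_ble_eq_true (by decide +kernel))))))
    (checkBlock_ge 12 4096 (Nat.le_of_ble_eq_true (by decide +kernel))))
    (checkBlock_ge 13 8192 (Nat.le_of_ble_eq_true (by decide +kernel))))

end Cfsg.Agent.Presented.TitsC3200
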